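import Groth.Agent.LocCoh.K103.CechKill
import Groth.Agent.S0817
import Groth.Agent.Pi1C.FormKill
import Groth.Agent.Localalg.LCIface

/-!
# The Frobenius step
-/

set_option autoImplicit false

open Groth.Agent.Pi1C.CechAll
open K103.CechSub hiding C

open IsLocalRing CategoryTheory

namespace K103.CechFrob

open K103.CechKill

universe u

section General

variable {R : Type u} [CommRing R] {L : Type u} [Field L] [Algebra R L]

/-- The map on local cohomology of an inclusion. -/
noncomputable abbrev HM (I : Ideal R) (i : ℕ) {S T : Subalgebra R L} (h : S ≤ T) :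
    LocCoh.H I i S →ₗ[R] LocCoh.H I i T :=
  Groth.Agent.LoccohA.LCTComp.Hmap I i
    (Submodule.inclusion (p := Subalgebra.toSubmodule S) (p' := Subalgebra.toSubmodule T) h)

theorem Hmap_comp (I : Ideal R) (i : ℕ) {M N P : Type u} [AddCommGroup M] [Module R M]
    [AddCommGroup N] [Module R N] [AddCommGroup P] [Module R P] (f : M →ₗ[R] N) (g : N →ₗ[R] P)
    (x : LocCoh.H I i M) :
    Groth.Agent.LoccohA.LCTComp.Hmap I i g (Groth.Agent.LoccohA.LCTComp.Hmap I i f x) =
      Groth.Agent.LoccohA.LCTComp.Hmap I i (g ∘ₗ f) x := by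
  unfold Groth.Agent.LoccohA.LCTComp.Hmap
  rw [ModuleCat.ofHom_comp, Functor.map_comp]
  rfl

theorem HM_comp (I : Ideal R) (i : ℕ) {S T U : Subalgebra R L} (h : S ≤ T) (h' : T ≤ U)
    (x : LocCoh.H I i S) : HM I i h' (HM I i h x) = HM I i (h.trans h') x :=
  Hmap_comp I i _ _ x

/-- common enlargement. -/
theorem exists_common {α : Type*} (P : α → Subalgebra R L → Prop)
    (hmono : ∀ a T T', T ≤ T' → P a T → P a T') (T₀ : Subalgebra R L)
    (s : Finset α) (h : ∀ a ∈ s, ∃ T' : Subalgebra R L, T₀ ≤ T' ∧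
      Module.Finite R T' ∧ P a T') [hT₀ : Module.Finite R T₀] :
    ∃ T' : Subalgebra R L, T₀ ≤ T' ∧ Module.Finite R T' ∧ ∀ a ∈ s, P a T' := by
  classical
  induction s using Finset.induction_on with
  | empty => exact ⟨T₀, le_rfl, hT₀, by simp⟩
  | insert a s ha ih =>
    obtain ⟨T₁, h1, hf1, hP1⟩ := ih fun b hb => h b (Finset.mem_insert_of_mem hb)
    obtain ⟨T₂, h2, hf2, hP2⟩ := h a (Finset.mem_insert_self a s)
    refine ⟨T₁ ⊔ T₂, h1.trans le_sup_left, Subalgebra.finite_sup T₁ T₂, fun b hb => ?_⟩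
    rcases Finset.mem_insert.1 hb with rfl | hb
    · exact hmono _ _ _ le_sup_right hP2
    · exact hmono _ _ _ le_sup_left (hP1 b hb)

/-- A recursion in a Noetherian module. -/
theorem exists_recursion {M : Type*} [AddCommGroup M] [Module R M] [IsNoetherian R M] (y : ℕ → M) :
    ∃ (e : ℕ) (r : ℕ → R), y e = ∑ k ∈ Finset.range e, r k • y k := by
  classical
  let W : ℕ →o Submodule R M :=
    { toFun := fun e => Submodule.span R (y '' (Finset.range e : Set ℕ))
      monotone' := fun a b hab => Submodule.span_mono (Set.image_mono (by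
        intro k hk
        simp only [Finset.coe_range, Set.mem_Iio] at hk ⊢
        omega)) }
  obtain ⟨e, he⟩ := monotone_stabilizes_iff_noetherian.2 inferInstance W
  have h1 : y e ∈ W (e + 1) := Submodule.subset_span ⟨e, by simp, rfl⟩
  rw [← he (e + 1) (Nat.le_succ e)] at h1
  obtain ⟨r, hr⟩ := (Submodule.mem_span_image_finset_iff_exists_fun' R).1 h1
  exact ⟨e, r, hr.symm⟩

end General

section Frob

variable {R : Type u} [CommRing R] {L : Type u} [Field L] [Algebra R L]

/-- Powers of cocycles. -/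
theorem pow_mem_Z (p : ℕ) [Fact p.Prime] [CharP L p] {ι : Type} (g : ι → R) (S : Subalgebra R L) (n : ℕ)
    (z : (Fin n → ι) → L) (hz : z ∈ Z g (Subalgebra.toSubmodule S) n) (k : ℕ) :
    (fun s => z s ^ (p ^ k)) ∈ Z g (Subalgebra.toSubmodule S) n := by
  refine ⟨fun s => ?_, ?_⟩
  · obtain ⟨m, hm⟩ := hz.1 s
    refine ⟨m * p ^ k, ?_⟩
    have h1 : (∏ j, g (s j)) ^ (m * p ^ k) • (z s ^ (p ^ k)) =
        ((∏ j, g (s j)) ^ m • z s) ^ (p ^ k) := by
      rw [smul_pow, ← pow_mul]
    rw [h1]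
    exact S.pow_mem hm _
  · have h1 := D_comp R ι L n z (iterateFrobenius L p k).toAddMonoidHom
    have h2 : D R ι L n z = 0 := hz.2
    refine h1.trans ?_
    funext s
    rw [h2]
    exact map_zero (iterateFrobenius L p k)

/-- The Frobenius step, for one class. -/
theorem exists_kill_class (p : ℕ) [Fact p.Prime] [CharP L p] [IsAlgClosed L] {ι : Type} [Finite ι]
    (i₀ : ι) (g : ι → R) (I : Ideal R) (n : ℕ)
    (π : ∀ N : Submodule R L, Z g N (n + 1) →ₗ[R] LocCoh.H I (n + 1) N)
    (h2 : ∀ N z, π N z = 0 ↔ ∃ b ∈ CechSub.C g N n, D R ι L n b = z.1)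
    (h3 : ∀ (N N' : Submodule R L) (h : N ≤ N') (z : Z g N (n + 1)),
        Groth.Agent.LoccohA.LCTComp.Hmap I (n + 1) (Submodule.inclusion h) (π N z) =
          π N' ⟨z.1, Z_mono g h _ z.2⟩)
    (S T : Subalgebra R L) [Module.Finite R T] (h : S ≤ T)
    (hN : IsNoetherian R (LinearMap.range (HM I (n + 1) h)))
    (z : Z g (Subalgebra.toSubmodule S) (n + 1)) :
    ∃ T' : Subalgebra R L, T ≤ T' ∧ Module.Finite R T' ∧
      ∃ b' ∈ CechSub.C g (Subalgebra.toSubmodule T') n, D R ι L n b' = z.1 := by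
  let zk : ℕ → Z g (Subalgebra.toSubmodule S) (n + 1) := fun k =>
    ⟨fun s => z.1 s ^ (p ^ k), pow_mem_Z p g S (n + 1) z.1 z.2 k⟩
  let y : ℕ → LinearMap.range (HM I (n + 1) h) := fun k =>
    ⟨HM I (n + 1) h (π _ (zk k)), ⟨_, rfl⟩⟩
  obtain ⟨e, r, her⟩ := exists_recursion (R := R) y
  have her' := congrArg Subtype.val her
  rw [Submodule.coe_sum] at her'
  have h4 : π (Subalgebra.toSubmodule T) (⟨(zk e).1, Z_mono g h _ (zk e).2⟩ -
      ∑ k ∈ Finset.range e, r k • ⟨(zk k).1, Z_mono g h _ (zk k).2⟩) = 0 := by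
    rw [map_sub, map_sum, sub_eq_zero]
    refine (h3 _ _ h _).symm.trans (her'.trans ?_)
    refine Finset.sum_congr rfl fun k _ => ?_
    rw [map_smul, ← h3 _ _ h]
    rfl
  obtain ⟨b, hb, hbz⟩ := (h2 _ _).1 h4
  refine exists_kill p i₀ g T n z.1 z.2.2 e r b hb ?_
  rw [hbz]
  funext s
  simp [zk]

/-- generators of an ideal without zero. -/
theorem exists_generators {R : Type u} [CommRing R] [IsNoetherianRing R] (I : Ideal R)
    (hI : I ≠ ⊥) :
    ∃ (ι : Type) (_ : Finite ι) (_ : ι) (g : ι → R), (∀ i, g i ≠ 0) ∧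
      I = Ideal.span (Set.range g) := by
  obtain ⟨n, s, hs⟩ := Submodule.fg_iff_exists_fin_generating_family.1
    (IsNoetherian.noetherian I)
  let ι := {i : Fin n // s i ≠ 0}
  have hspan : I = Ideal.span (Set.range fun i : ι => s i.1) := by
    apply le_antisymm
    · rw [← hs, Submodule.span_le]
      rintro _ ⟨i, rfl⟩
      by_cases hi : s i = 0
      · rw [hi]; exact Submodule.zero_mem _
      · exact Ideal.subset_span ⟨⟨i, hi⟩, rfl⟩
    · rw [Ideal.span_le]
      rintro _ ⟨i, rfl⟩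
      rw [← hs]
      exact Submodule.subset_span ⟨i.1, rfl⟩
  have hne : Nonempty ι := by
    by_contra hcon
    rw [not_nonempty_iff] at hcon
    apply hI
    rw [hspan, Set.range_eq_empty, Ideal.span_empty]
  exact ⟨ι, inferInstance, hne.some, fun i => s i.1, fun i => i.2, hspan⟩

/-- **The Frobenius step.** -/
theorem stepC (p : ℕ) [Fact p.Prime] [CharP L p] [IsAlgClosed L] [IsNoetherianRing R]
    [IsLocalRing R] (hinj : Function.Injective (algebraMap R L)) (hm : maximalIdeal R ≠ ⊥)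
    (S T : Subalgebra R L) [Module.Finite R S] [Module.Finite R T] (h : S ≤ T) (i k : ℕ)
    (hk : ∀ a ∈ maximalIdeal R ^ k, ∀ x, a • HM (maximalIdeal R) i h x = 0) :
    ∃ (T' : Subalgebra R L) (h' : T ≤ T'), Module.Finite R T' ∧
      ∀ x, HM (maximalIdeal R) i (h.trans h') x = 0 := by
  classical
  obtain ⟨ι, hι, i₀, g, hg, hI⟩ := exists_generators (maximalIdeal R) hm
  have hgL : ∀ i, algebraMap R L (g i) ≠ 0 := fun i hi =>
    hg i (hinj (hi.trans (map_zero _).symm))
  have hL : ∀ i, Function.Bijective (fun x : L => g i • x) := by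
    intro i
    have h1 : (fun x : L => g i • x) = fun x => algebraMap R L (g i) * x := by
      funext x; rw [Algebra.smul_def]
    rw [h1]
    exact mulLeft_bijective₀ _ (hgL i)
  rcases i with _ | n
  · refine ⟨T, le_rfl, inferInstance, fun x => ?_⟩
    obtain ⟨f, hf⟩ := Groth.Agent.Localalg.LCIface.exists_H0 (maximalIdeal R) S
    obtain ⟨n, hn⟩ := Groth.Agent.Localalg.LCIface.isPowerTorsion_H (maximalIdeal R) S 0 x
    have h1 : g i₀ ^ n • x = 0 := by
      refine hn _ (Ideal.pow_mem_pow ?_ n)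
      rw [hI]
      exact Ideal.subset_span ⟨i₀, rfl⟩
    have h2 : g i₀ ^ n • f x = 0 := by rw [← map_smul, h1, map_zero]
    have h3 : algebraMap R L (g i₀ ^ n) * (f x : L) = 0 := by
      rw [← Algebra.smul_def]
      exact congrArg Subtype.val h2
    have h4 : f x = 0 := by
      apply Subtype.ext
      refine (mul_eq_zero.1 h3).resolve_left ?_
      rw [map_pow]
      exact pow_ne_zero _ (hgL i₀)
    have h5 : x = 0 := hf (h4.trans (map_zero f).symm)
    rw [h5, map_zero]
  obtain ⟨π, hπ1, hπ2, hπ3⟩ := exists_pi g hL (maximalIdeal R) hI n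
  have hNoeth : IsNoetherian R (LinearMap.range (HM (maximalIdeal R) (n + 1) h)) := by
    have h1 : IsArtinian R (LocCoh.H (maximalIdeal R) (n + 1) T) :=
      Groth.Agent.S0817.result R T (n + 1)
    refine Groth.Agent.Pi1C.FormKill.isNoetherian_of_pow (maximalIdeal R) k inferInstance ?_
    rintro a ha ⟨_, x, rfl⟩
    exact Subtype.ext (hk a ha x)
  have hfin : (⊤ : Submodule R (LinearMap.range (HM (maximalIdeal R) (n + 1) h))).FG :=
    IsNoetherian.noetherian _
  obtain ⟨s, hs⟩ := hfin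
  have hrep : ∀ y : LinearMap.range (HM (maximalIdeal R) (n + 1) h),
      ∃ z : Z g (Subalgebra.toSubmodule S) (n + 1), HM (maximalIdeal R) (n + 1) h (π _ z) = y.1 := by
    rintro ⟨_, x, rfl⟩
    obtain ⟨z, rfl⟩ := hπ1 (Subalgebra.toSubmodule S) x
    exact ⟨z, rfl⟩
  choose zz hzz using hrep
  obtain ⟨T', hT, hfin', hP⟩ := exists_common (R := R) (L := L)
    (fun (y : LinearMap.range (HM (maximalIdeal R) (n + 1) h)) T' =>
      ∃ b' ∈ CechSub.C g (Subalgebra.toSubmodule T') n, D R ι L n b' = (zz y).1)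
    (by
      rintro y T₁ T₂ h12 ⟨b, hb, hbz⟩
      exact ⟨b, C_mono g h12 n hb, hbz⟩) T s
    (fun y _ => exists_kill_class p i₀ g (maximalIdeal R) n π hπ2 hπ3 S T h hNoeth (zz y))
  refine ⟨T', hT, hfin', ?_⟩
  -- the generators die
  have hgen : ∀ y ∈ s, HM (maximalIdeal R) (n + 1) hT y.1 = 0 := by
    intro y hy
    rw [← hzz y, HM_comp]
    refine (hπ3 _ _ (h.trans hT) (zz y)).trans ?_
    exact (hπ2 _ _).2 (hP y hy)
  have hall : ∀ y : LinearMap.range (HM (maximalIdeal R) (n + 1) h),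
      HM (maximalIdeal R) (n + 1) hT y.1 = 0 := by
    intro y
    have hy : y ∈ Submodule.span R (s : Set _) := hs ▸ Submodule.mem_top
    induction hy using Submodule.span_induction with
    | mem y hy => exact hgen y hy
    | zero => exact map_zero _
    | add a b _ _ ha hb =>
      rw [Submodule.coe_add, map_add, ha, hb, add_zero]
    | smul r a _ ha => rw [Submodule.coe_smul, map_smul, ha, smul_zero]
  intro x
  rw [← HM_comp (maximalIdeal R) (n + 1) h hT x]
  exact hall ⟨_, x, rfl⟩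

end Frob

end K103.CechFrob
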