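import Groth.Agent.LocCoh.K103.CechSub
import Mathlib.FieldTheory.IsAlgClosed.Basic
import Mathlib.RingTheory.IntegralClosure.IsIntegralClosure.Basic
import Mathlib.Algebra.CharP.Frobenius

/-!
# The equational lemma
-/

set_option autoImplicit false

open Groth.Agent.Pi1C.CechAll
open K103.CechSub hiding C

namespace K103.CechKill

universe u

section Cochains

variable (R : Type u) [CommRing R] (ι : Type) (L : Type u) [AddCommGroup L] [Module R L]

theorem D_D (n : ℕ) (x : (Fin n → ι) → L) : D R ι L (n + 1) (D R ι L n x) = 0 := by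
  funext s
  rw [D_apply]
  let T : Fin (n + 2) → Fin (n + 1) → L := fun i j => x ((s ∘ i.succAbove) ∘ j.succAbove)
  have h := sum_alt_eq_zero R n T (fun i j hij => congrArg x (comp_succAbove_comm s i j hij))
  refine Eq.trans ?_ h
  refine Finset.sum_congr rfl fun i _ => ?_
  rw [D_apply, Finset.smul_sum]
  refine Finset.sum_congr rfl fun j _ => ?_
  rw [smul_smul, ← pow_add]

/-- the contracting homotopy. -/
def hmt {ι : Type} {L : Type u} (k : ι) {n : ℕ} (x : (Fin (n + 1) → ι) → L) : (Fin n → ι) → L :=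
  fun t => x (Fin.cons k t)

theorem D_hmt (k : ι) (n : ℕ) (x : (Fin (n + 1) → ι) → L) (hx : D R ι L (n + 1) x = 0) :
    D R ι L n (hmt k x) = x := by
  funext s
  have h := congr_fun hx (Fin.cons k s)
  rw [D_apply, Fin.sum_univ_succ, cons_comp_zero] at h
  simp only [Fin.val_zero, pow_zero, one_smul, cons_comp_succ, Fin.val_succ, pow_succ, mul_neg,
    mul_one, neg_smul, Finset.sum_neg_distrib, Pi.zero_apply] at h
  rw [D_apply]
  exact (sub_eq_zero.1 (by rw [sub_eq_add_neg]; exact h)).symm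

theorem D_comp (n : ℕ) (x : (Fin n → ι) → L) (φ : L →+ L) :
    D R ι L n (fun s => φ (x s)) = fun s => φ (D R ι L n x s) := by
  funext s
  rw [D_apply, D_apply, map_sum]
  refine Finset.sum_congr rfl fun j _ => ?_
  rcases neg_one_pow_eq_or R (j : ℕ) with h | h
  · rw [h, one_smul, one_smul]
  · rw [h, neg_smul, neg_smul, one_smul, one_smul, map_neg]

end Cochains

section Field

variable {R : Type u} [CommRing R] {L : Type u} [Field L] [Algebra R L]

open Polynomial in
theorem degree_lt (p : ℕ) (hp : 1 < p) (e : ℕ) {A : Type u} [CommRing A]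
    (a : ℕ → A) (c : A) :
    ((∑ k ∈ Finset.range e, C (a k) * X ^ (p ^ k)) + C c : A[X]).degree < ((p ^ e : ℕ) : WithBot ℕ) := by
  refine lt_of_le_of_lt (degree_add_le _ _) (max_lt ?_ ?_)
  · refine (degree_sum_le _ _).trans_lt ?_
    rw [Finset.sup_lt_iff (by exact WithBot.bot_lt_coe _)]
    intro k hk
    refine (degree_C_mul_X_pow_le _ _).trans_lt ?_
    exact_mod_cast Nat.pow_lt_pow_right hp (Finset.mem_range.1 hk)
  · refine degree_C_le.trans_lt ?_
    exact_mod_cast Nat.pos_of_ne_zero (pow_ne_zero _ (by omega))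

open Polynomial in
/-- the monic polynomial. -/
theorem monic_poly (p : ℕ) (hp : 1 < p) (e : ℕ) {A : Type u} [CommRing A]
    (a : ℕ → A) (c : A) :
    (X ^ (p ^ e) - ((∑ k ∈ Finset.range e, C (a k) * X ^ (p ^ k)) + C c) : A[X]).Monic := by
  nontriviality A
  refine (monic_X_pow _).sub_of_left ?_
  rw [degree_X_pow]
  exact degree_lt p hp e a c

open Polynomial in
theorem isIntegral_of_eq (p : ℕ) (hp : 1 < p) (e : ℕ) (a : ℕ → L) (c u : L)
    (ha : ∀ k, IsIntegral R (a k)) (hc : IsIntegral R c)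
    (h : u ^ (p ^ e) = (∑ k ∈ Finset.range e, a k * u ^ (p ^ k)) + c) : IsIntegral R u := by
  let A := integralClosure R L
  let a' : ℕ → A := fun k => ⟨a k, ha k⟩
  let c' : A := ⟨c, hc⟩
  refine isIntegral_trans (A := A) u ?_
  refine ⟨X ^ (p ^ e) - ((∑ k ∈ Finset.range e, C (a' k) * X ^ (p ^ k)) + C c'),
    monic_poly p hp e a' c', ?_⟩
  rw [eval₂_sub, eval₂_add, eval₂_finsetSum, eval₂_X_pow, eval₂_C]
  simp only [eval₂_mul, eval₂_C, eval₂_X_pow]
  rw [sub_eq_zero, h]
  rfl

open Polynomial in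
theorem exists_root [IsAlgClosed L] (p : ℕ) (hp : 1 < p) (e : ℕ) (a : ℕ → L) (c : L) :
    ∃ u : L, u ^ (p ^ e) - (∑ k ∈ Finset.range e, a k * u ^ (p ^ k)) = c := by
  have hm := monic_poly p hp e a c
  have hd : (X ^ (p ^ e) - ((∑ k ∈ Finset.range e, C (a k) * X ^ (p ^ k)) + C c) : L[X]).degree ≠ 0 := by
    rw [degree_sub_eq_left_of_degree_lt (by rw [degree_X_pow]; exact degree_lt p hp e a c),
      degree_X_pow]
    exact_mod_cast (pow_ne_zero e (by omega : p ≠ 0))
  obtain ⟨u, hu⟩ := IsAlgClosed.exists_root _ hd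
  refine ⟨u, ?_⟩
  rw [IsRoot, eval_sub, eval_add, eval_finsetSum, eval_pow, eval_X, eval_C] at hu
  simp only [eval_mul, eval_C, eval_pow, eval_X] at hu
  rw [sub_eq_iff_eq_add, add_comm]
  exact sub_eq_zero.1 hu

end Field

section Kill

variable {R : Type u} [CommRing R] {L : Type u} [Field L] [Algebra R L]

/-- The additive polynomial. -/
noncomputable def Phi (p : ℕ) [Fact p.Prime] [CharP L p] (e : ℕ) (a : ℕ → L) : L →+ L :=
  (iterateFrobenius L p e).toAddMonoidHom - ∑ k ∈ Finset.range e,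
    (AddMonoidHom.mulLeft (a k)).comp (iterateFrobenius L p k).toAddMonoidHom

theorem Phi_apply (p : ℕ) [Fact p.Prime] [CharP L p] (e : ℕ) (a : ℕ → L) (x : L) :
    Phi p e a x = x ^ (p ^ e) - ∑ k ∈ Finset.range e, a k * x ^ (p ^ k) := by
  simp only [Phi, AddMonoidHom.sub_apply, AddMonoidHom.finsetSum_apply, AddMonoidHom.comp_apply,
    AddMonoidHom.coe_mulLeft]
  rfl

/-- adding finitely many integral elements. -/
theorem exists_subalgebra (T : Subalgebra R L) [Module.Finite R T] (s : Set L) (hs : s.Finite)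
    (hi : ∀ x ∈ s, IsIntegral R x) :
    ∃ T' : Subalgebra R L, T ≤ T' ∧ Module.Finite R T' ∧ s ⊆ T' := by
  have h1 : Module.Finite R (Algebra.adjoin R s) :=
    Algebra.finite_adjoin_of_finite_of_isIntegral hs hi
  exact ⟨T ⊔ Algebra.adjoin R s, le_sup_left, Subalgebra.finite_sup T (Algebra.adjoin R s),
    Algebra.subset_adjoin.trans (SetLike.coe_subset_coe.2 le_sup_right)⟩

theorem exists_kill (p : ℕ) [Fact p.Prime] [CharP L p] [IsAlgClosed L] {ι : Type} [Finite ι]
    (i₀ : ι) (g : ι → R) (T : Subalgebra R L)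
    [Module.Finite R T] (n : ℕ) (z : (Fin (n + 1) → ι) → L)
    (hz : D R ι L (n + 1) z = 0) (e : ℕ) (r : ℕ → R) (b : (Fin n → ι) → L)
    (hb : b ∈ CechSub.C g (Subalgebra.toSubmodule T) n)
    (h : D R ι L n b = fun s => z s ^ (p ^ e) - ∑ k ∈ Finset.range e, r k • z s ^ (p ^ k)) :
    ∃ T' : Subalgebra R L, T ≤ T' ∧ Module.Finite R T' ∧
      ∃ b' ∈ CechSub.C g (Subalgebra.toSubmodule T') n, D R ι L n b' = z := by
  classical
  have hp : 1 < p := (Fact.out : p.Prime).one_lt
  let a : ℕ → L := fun k => algebraMap R L (r k)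
  have ha : ∀ k, IsIntegral R (a k) := fun k => isIntegral_algebraMap
  let Φ : L →+ L := Phi p e a
  have hΦ : ∀ x : L, Φ x = x ^ (p ^ e) - ∑ k ∈ Finset.range e, a k * x ^ (p ^ k) :=
    Phi_apply p e a
  -- the roots
  have hroot : ∀ t : Fin n → ι, ∃ w : L, Φ w = b t := fun t => by
    obtain ⟨w, hw⟩ := exists_root p hp e a (b t)
    exact ⟨w, (hΦ w).trans hw⟩
  choose w hw using hroot
  have hw' : (fun t => Φ (w t)) = b := funext hw
  -- the modified cocycle
  let z' : (Fin (n + 1) → ι) → L := z - D R ι L n w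
  have hz' : D R ι L (n + 1) z' = 0 := by
    rw [map_sub, hz, D_D, sub_zero]
  have hΦz : (fun s => Φ (z s)) = D R ι L n b := by
    rw [h]
    funext s
    rw [hΦ]
    simp only [a, Algebra.smul_def]
  have hΦz' : ∀ s, Φ (z' s) = 0 := by
    intro s
    have h1 := congr_fun (D_comp R ι L n w Φ) s
    rw [hw', ← hΦz] at h1
    change Φ (z s - D R ι L n w s) = 0
    rw [map_sub, sub_eq_zero]
    exact h1
  have hint : ∀ s, IsIntegral R (z' s) := by
    intro s
    refine isIntegral_of_eq p hp e a 0 (z' s) ha isIntegral_zero ?_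
    rw [add_zero, ← sub_eq_zero, ← hΦ]
    exact hΦz' s
  have hD := D_hmt R ι L i₀ n z' hz'
  -- the denominators
  have hden : ∀ t : Fin n → ι, ∃ m : ℕ, IsIntegral R ((∏ j, g (t j)) ^ m • w t) := by
    intro t
    obtain ⟨m, hm⟩ := hb t
    refine ⟨m, ?_⟩
    set G := algebraMap R L ((∏ j, g (t j)) ^ m) with hG
    have hGi : IsIntegral R G := isIntegral_algebraMap
    have hpow : ∀ k < e, p ^ k ≤ p ^ e := fun k hk => Nat.pow_le_pow_right (by omega) hk.le
    rw [Algebra.smul_def, ← hG]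
    refine isIntegral_of_eq p hp e (fun k => G ^ (p ^ e - p ^ k) * a k) (G ^ (p ^ e) * b t)
      (G * w t) (fun k => (hGi.pow _).mul (ha k)) ?_ ?_
    · have h1 : IsIntegral R (G * b t) := by
        rw [hG, ← Algebra.smul_def]
        exact (Algebra.IsIntegral.isIntegral (R := R) (⟨_, hm⟩ : T)).map T.val
      have h2 : G ^ (p ^ e) * b t = G ^ (p ^ e - 1) * (G * b t) := by
        rw [← mul_assoc, ← pow_succ, Nat.sub_add_cancel (Nat.one_le_pow _ _ (by omega))]
      rw [h2]
      exact (hGi.pow _).mul h1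
    · have h3 : w t ^ (p ^ e) = (∑ k ∈ Finset.range e, a k * w t ^ (p ^ k)) + b t := by
        rw [← hw t, hΦ]; ring
      rw [mul_pow, h3, mul_add, Finset.mul_sum]
      congr 1
      refine Finset.sum_congr rfl fun k hk => ?_
      have h4 : G ^ (p ^ e) = G ^ (p ^ e - p ^ k) * G ^ (p ^ k) := by
        rw [← pow_add, Nat.sub_add_cancel (hpow k (Finset.mem_range.1 hk))]
      rw [h4, mul_pow]
      ring
  choose m hm using hden
  obtain ⟨T', hT, hfin, hsub⟩ := exists_subalgebra T
    (Set.range (fun t : Fin n → ι => (∏ j, g (t j)) ^ (m t) • w t) ∪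
      Set.range (hmt i₀ z')) ((Set.finite_range _).union (Set.finite_range _)) (by
      rintro x (⟨t, rfl⟩ | ⟨t, rfl⟩)
      · exact hm t
      · exact hint _)
  refine ⟨T', hT, hfin, w + hmt i₀ z', ?_, ?_⟩
  · refine Submodule.add_mem _ ?_ ?_
    · intro t
      exact ⟨m t, hsub (Or.inl ⟨t, rfl⟩)⟩
    · intro t
      refine ⟨0, ?_⟩
      rw [pow_zero, one_smul]
      exact hsub (Or.inr ⟨t, rfl⟩)
  · rw [map_add, hD]
    exact add_sub_cancel _ _

end Kill

end K103.CechKill
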