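import Groth.Agent.Pi1C.CechModel
import Groth.Agent.LoccohA.LCTComp

/-!
# The Čech complex of a submodule of a module on which the `g i` are invertible
-/

set_option autoImplicit false

open CategoryTheory Limits
open Groth.Agent.FormalA.LocSub Groth.Agent.Localalg.Gam Groth.Agent.Localalg.DeltaFun
open Groth.Agent.Pi1C.CechAll Groth.Agent.Pi1C.ExactCxLC Groth.Agent.Pi1C.CechCmp
open Groth.Agent.Pi1C.CechModel

namespace K103.CechSub

universe u

section Defs

variable {R : Type u} [CommRing R] {ι : Type} (g : ι → R) {L : Type u} [AddCommGroup L]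
  [Module R L] 

/-- The alternating differential. -/
def D (R : Type u) [CommRing R] (ι : Type) (L : Type u) [AddCommGroup L]
    [Module R L] (n : ℕ) : ((Fin n → ι) → L) →ₗ[R] ((Fin (n + 1) → ι) → L) :=
  LinearMap.pi fun s => ∑ j : Fin (n + 1), ((-1 : R) ^ (j : ℕ)) •
    LinearMap.proj (s ∘ j.succAbove)

theorem D_apply (n : ℕ) (x : (Fin n → ι) → L) (s : Fin (n + 1) → ι) :
    D R ι L n x s = ∑ j : Fin (n + 1), ((-1 : R) ^ (j : ℕ)) • x (s ∘ j.succAbove) := by
  simp only [D, LinearMap.pi_apply, LinearMap.sum_apply, LinearMap.smul_apply,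
    LinearMap.proj_apply]

/-- cochains with values in the localizations of `N`. -/
def C (N : Submodule R L) (n : ℕ) : Submodule R ((Fin n → ι) → L) where
  carrier := {c | ∀ s, ∃ m : ℕ, (∏ j, g (s j)) ^ m • c s ∈ N}
  zero_mem' s := ⟨0, by simp⟩
  add_mem' {a b} ha hb s := by
    obtain ⟨m, hm⟩ := ha s
    obtain ⟨m', hm'⟩ := hb s
    refine ⟨m + m', ?_⟩
    rw [Pi.add_apply, smul_add]
    refine N.add_mem ?_ ?_
    · rw [pow_add, mul_comm, mul_smul]
      exact N.smul_mem _ hm
    · rw [pow_add, mul_smul]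
      exact N.smul_mem _ hm'
  smul_mem' r a ha s := by
    obtain ⟨m, hm⟩ := ha s
    refine ⟨m, ?_⟩
    rw [Pi.smul_apply, smul_comm]
    exact N.smul_mem _ hm

theorem mem_C {N : Submodule R L} {n : ℕ} {c : (Fin n → ι) → L} :
    c ∈ C g N n ↔ ∀ s, ∃ m : ℕ, (∏ j, g (s j)) ^ m • c s ∈ N := Iff.rfl

theorem C_mono {N N' : Submodule R L} (h : N ≤ N') (n : ℕ) : C g N n ≤ C g N' n :=
  fun _ hc s => (hc s).imp fun _ hm => h hm

/-- cocycles. -/
def Z (N : Submodule R L) (n : ℕ) : Submodule R ((Fin n → ι) → L) :=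
  C g N n ⊓ LinearMap.ker (D R ι L n)

theorem mem_Z {N : Submodule R L} {n : ℕ} {c : (Fin n → ι) → L} :
    c ∈ Z g N n ↔ c ∈ C g N n ∧ D R ι L n c = 0 := Iff.rfl

theorem Z_mono {N N' : Submodule R L} (h : N ≤ N') (n : ℕ) : Z g N n ≤ Z g N' n :=
  fun _ hc => ⟨C_mono g h n hc.1, hc.2⟩

end Defs

section Theta

variable {R : Type u} [CommRing R] {ι : Type} (g : ι → R) {L : Type u} [AddCommGroup L]
  [Module R L] (hL : ∀ i, Function.Bijective (fun x : L => g i • x))

include hL in
theorem isUnit_of_mem_P {n : ℕ} (s : Fin n → ι) (a : R) (ha : a ∈ P g s) :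
    IsUnit (algebraMap R (Module.End R L) a) := by
  have : P g s ≤ (IsUnit.submonoid (Module.End R L)).comap
      (algebraMap R (Module.End R L)).toMonoidHom := by
    refine iSup_le fun j => ?_
    rintro _ ⟨m, rfl⟩
    refine Submonoid.pow_mem _ ?_ m
    exact (Module.End.isUnit_iff _).2 (hL (s j))
  exact this ha

/-- The map from the localization of `N` to `L`. -/
noncomputable def θ (N : Submodule R L) {n : ℕ} (s : Fin n → ι) :
    LocalizedModule (P g s) N →ₗ[R] L :=
  LocalizedModule.lift (P g s) N.subtype fun x => isUnit_of_mem_P g hL s x.1 x.2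

theorem θ_mkLinearMap (N : Submodule R L) {n : ℕ} (s : Fin n → ι) (x : N) :
    θ g hL N s (LocalizedModule.mkLinearMap (P g s) N x) = x := by
  have := LocalizedModule.lift_comp (P g s) N.subtype
    fun x => isUnit_of_mem_P g hL s x.1 x.2
  exact LinearMap.congr_fun this x

theorem smul_θ (N : Submodule R L) {n : ℕ} (s : Fin n → ι) (x : LocalizedModule (P g s) N) :
    ∃ (a : P g s) (y : N), a.1 • x = LocalizedModule.mkLinearMap (P g s) N y := by
  obtain ⟨⟨y, a⟩, h⟩ := IsLocalizedModule.surj (P g s) (LocalizedModule.mkLinearMap (P g s) N) x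
  exact ⟨a, y, h⟩

include hL in
theorem smul_injective {n : ℕ} (s : Fin n → ι) (a : R) (ha : a ∈ P g s) :
    Function.Injective (fun x : L => a • x) :=
  ((Module.End.isUnit_iff _).1 (isUnit_of_mem_P g hL s a ha)).1

theorem θ_injective (N : Submodule R L) {n : ℕ} (s : Fin n → ι) :
    Function.Injective (θ g hL N s) := by
  rw [injective_iff_map_eq_zero]
  intro x hx
  obtain ⟨a, y, h⟩ := smul_θ g N s x
  have h1 : θ g hL N s (a.1 • x) = y := by rw [h, θ_mkLinearMap]
  rw [map_smul, hx, smul_zero] at h1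
  have hy : y = 0 := Subtype.ext h1.symm
  rw [hy, map_zero] at h
  have h2 := IsLocalizedModule.smul_injective (LocalizedModule.mkLinearMap (P g s) N) a
  refine h2 (a₁ := x) (a₂ := 0) ?_
  change a.1 • x = a.1 • (0 : LocalizedModule (P g s) N)
  rw [h, smul_zero]

theorem mem_range_θ (N : Submodule R L) {n : ℕ} (s : Fin n → ι) (x : L) :
    x ∈ LinearMap.range (θ g hL N s) ↔ ∃ m : ℕ, (∏ j, g (s j)) ^ m • x ∈ N := by
  constructor
  · rintro ⟨y, rfl⟩
    obtain ⟨a, z, h⟩ := smul_θ g N s y
    obtain ⟨m, b, hb⟩ := exists_dvd g s a.2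
    refine ⟨m, ?_⟩
    have h1 : θ g hL N s (a.1 • y) = z := by rw [h, θ_mkLinearMap]
    rw [map_smul] at h1
    rw [hb, mul_comm, mul_smul, h1]
    exact N.smul_mem _ z.2
  · rintro ⟨m, hm⟩
    have hP : (∏ j, g (s j)) ^ m ∈ P g s := Submonoid.pow_mem _ (prod_mem_P g s) m
    refine ⟨LocalizedModule.mk ⟨_, hm⟩ ⟨_, hP⟩, ?_⟩
    apply smul_injective g hL s _ hP
    change (∏ j, g (s j)) ^ m • _ = (∏ j, g (s j)) ^ m • x
    rw [← map_smul]
    have h1 : (∏ j, g (s j)) ^ m • (LocalizedModule.mk (⟨_, hm⟩ : N) (⟨_, hP⟩ : P g s) :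
        LocalizedModule (P g s) N) = LocalizedModule.mkLinearMap (P g s) N ⟨_, hm⟩ := by
      rw [LocalizedModule.smul'_mk, LocalizedModule.mkLinearMap_apply]
      exact LocalizedModule.mk_cancel (⟨_, hP⟩ : P g s) _
    rw [h1, θ_mkLinearMap]

theorem θ_res (N : Submodule R L) {n m : ℕ} (s : Fin n → ι) (φ : Fin m → Fin n)
    (x : LocalizedModule (P g (s ∘ φ)) N) :
    θ g hL N s (res (P_comp_le g s φ) x) = θ g hL N (s ∘ φ) x := by
  obtain ⟨a, y, h⟩ := smul_θ g N _ x
  apply smul_injective g hL s a.1 (P_comp_le g s φ a.2)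
  change a.1 • _ = a.1 • _
  rw [← map_smul, ← map_smul, ← map_smul, h, res_mkLinearMap, θ_mkLinearMap, θ_mkLinearMap]

theorem θ_lmap {N N' : Submodule R L} (h : N ≤ N') {n : ℕ} (s : Fin n → ι)
    (x : LocalizedModule (P g s) N) :
    θ g hL N' s (lmap _ (Submodule.inclusion h) x) = θ g hL N s x := by
  obtain ⟨a, y, h1⟩ := smul_θ g N _ x
  apply smul_injective g hL s a.1 a.2
  change a.1 • _ = a.1 • _
  rw [← map_smul, ← map_smul, ← map_smul, h1, lmap_mkLinearMap, θ_mkLinearMap, θ_mkLinearMap]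
  rfl

/-- The comparison with `L`-valued cochains. -/
noncomputable def Θ (N : Submodule R L) (n : ℕ) : EC g N n →ₗ[R] ((Fin n → ι) → L) :=
  LinearMap.pi fun s => θ g hL N s ∘ₗ LinearMap.proj s

theorem Θ_apply (N : Submodule R L) (n : ℕ) (x : EC g N n) (s : Fin n → ι) :
    Θ g hL N n x s = θ g hL N s (x s) := rfl

theorem Θ_injective (N : Submodule R L) (n : ℕ) : Function.Injective (Θ g hL N n) :=
  fun _ _ h => funext fun s => θ_injective g hL N s (congr_fun h s)

theorem Θ_d (N : Submodule R L) (n : ℕ) (x : EC g N n) :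
    Θ g hL N (n + 1) (d g N n x) = D R ι L n (Θ g hL N n x) := by
  funext s
  rw [Θ_apply, d_apply, D_apply, map_sum]
  refine Finset.sum_congr rfl fun j _ => ?_
  rw [map_smul, θ_res]
  rfl

theorem Θ_emap {N N' : Submodule R L} (h : N ≤ N') (n : ℕ) (x : EC g N n) :
    Θ g hL N' n (emap g (Submodule.inclusion h) n x) = Θ g hL N n x :=
  funext fun s => θ_lmap g hL h s (x s)

theorem range_Θ (N : Submodule R L) (n : ℕ) : LinearMap.range (Θ g hL N n) = C g N n := by
  ext c
  constructor
  · rintro ⟨x, rfl⟩ s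
    exact (mem_range_θ g hL N s _).1 ⟨x s, rfl⟩
  · intro hc
    choose x hx using fun s => (mem_range_θ g hL N s (c s)).2 (hc s)
    exact ⟨x, funext hx⟩

end Theta

section Cls

variable {R : Type u} [CommRing R] {ι : Type} (g : ι → R)

/-- cocycles, as a map to the cycles object. -/
noncomputable def kap (M : ModuleCat.{u} R) (n : ℕ) :
    ModuleCat.of R (LinearMap.ker (d g M (n + 1))) ⟶ (ecObj g M).cycles (n + 1) :=
  (ecObj g M).liftCycles (ModuleCat.ofHom (Y := EC g M (n + 1))
    (LinearMap.ker (d g M (n + 1))).subtype) (n + 2) (by simp) (by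
      rw [show (ecObj g M).d (n + 1) (n + 2) = _ from ecObj_d g M (n + 1)]
      ext x
      exact x.2)

theorem kap_i (M : ModuleCat.{u} R) (n : ℕ) :
    kap g M n ≫ (ecObj g M).iCycles (n + 1) = ModuleCat.ofHom (Y := EC g M (n + 1))
      (LinearMap.ker (d g M (n + 1))).subtype :=
  HomologicalComplex.liftCycles_i ..

theorem kap_surjective (M : ModuleCat.{u} R) (n : ℕ) : Function.Surjective (kap g M n).hom := by
  intro c
  have hi : Function.Injective ((ecObj g M).iCycles (n + 1)).hom :=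
    (ModuleCat.mono_iff_injective _).1 inferInstance
  have hz : d g M (n + 1) (((ecObj g M).iCycles (n + 1)).hom c) = 0 := by
    have h := (ecObj g M).iCycles_d (n + 1) (n + 2)
    rw [show (ecObj g M).d (n + 1) (n + 2) = _ from ecObj_d g M (n + 1)] at h
    exact congrArg (fun t => t.hom c) h
  refine ⟨⟨_, hz⟩, hi ?_⟩
  exact congrArg (fun t => t.hom (⟨_, hz⟩ : LinearMap.ker (d g M (n + 1)))) (kap_i g M n)

/-- the class of a cocycle. -/
noncomputable def cls (M : ModuleCat.{u} R) (n : ℕ) :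
    ModuleCat.of R (LinearMap.ker (d g M (n + 1))) ⟶ (ecObj g M).homology (n + 1) :=
  kap g M n ≫ (ecObj g M).homologyπ (n + 1)

theorem cls_surjective (M : ModuleCat.{u} R) (n : ℕ) : Function.Surjective (cls g M n).hom := by
  have h1 : Function.Surjective ((ecObj g M).homologyπ (n + 1)).hom :=
    (ModuleCat.epi_iff_surjective _).1 inferInstance
  exact h1.comp (kap_surjective g M n)

theorem cls_eq_zero_iff (M : ModuleCat.{u} R) (n : ℕ) (z : LinearMap.ker (d g M (n + 1))) :
    (cls g M n).hom z = 0 ↔ ∃ b : EC g M n, d g M n b = z := by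
  have hi : Function.Injective ((ecObj g M).iCycles (n + 1)).hom :=
    (ModuleCat.mono_iff_injective _).1 inferInstance
  have hk : ((ecObj g M).iCycles (n + 1)).hom ((kap g M n).hom z) = z.1 :=
    congrArg (fun t => t.hom z) (kap_i g M n)
  have ht : ∀ b : EC g M n, ((ecObj g M).iCycles (n + 1)).hom
      (((ecObj g M).toCycles n (n + 1)).hom b) = d g M n b := by
    intro b
    have h := (ecObj g M).toCycles_i n (n + 1)
    rw [show (ecObj g M).d n (n + 1) = _ from ecObj_d g M n] at h
    exact congrArg (fun t => t.hom b) h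
  let S : ShortComplex (ModuleCat.{u} R) := ShortComplex.mk ((ecObj g M).toCycles n (n + 1))
    ((ecObj g M).homologyπ (n + 1)) ((ecObj g M).toCycles_comp_homologyπ n (n + 1))
  have hS : S.Exact := S.exact_of_g_is_cokernel
    ((ecObj g M).homologyIsCokernel n (n + 1) (by simp))
  have hex := (ShortComplex.ShortExact.moduleCat_exact_iff_function_exact S).1 hS
  constructor
  · intro h
    obtain ⟨b, hb⟩ := (hex ((kap g M n).hom z)).1 h
    refine ⟨b, ?_⟩
    rw [← ht b, ← hk]
    exact congrArg _ hb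
  · rintro ⟨b, hb⟩
    refine (hex ((kap g M n).hom z)).2 ⟨b, ?_⟩
    apply hi
    rw [hk, ← hb]
    exact ht b

/-- the map on cocycles. -/
noncomputable def zmap {M M' : ModuleCat.{u} R} (φ : M ⟶ M') (n : ℕ) :
    LinearMap.ker (d g M (n + 1)) →ₗ[R] LinearMap.ker (d g M' (n + 1)) :=
  LinearMap.restrict (emap g φ.hom (n + 1)) (fun x hx => by
    rw [LinearMap.mem_ker] at hx ⊢
    rw [← emap_d, hx, map_zero])

theorem cls_naturality {M M' : ModuleCat.{u} R} (φ : M ⟶ M') (n : ℕ) :
    cls g M n ≫ HomologicalComplex.homologyMap (ecMap g φ) (n + 1) =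
      ModuleCat.ofHom (zmap g φ n) ≫ cls g M' n := by
  have h1 : kap g M n ≫ HomologicalComplex.cyclesMap (ecMap g φ) (n + 1) =
      ModuleCat.ofHom (zmap g φ n) ≫ kap g M' n := by
    rw [← cancel_mono ((ecObj g M').iCycles (n + 1)), Category.assoc, Category.assoc, kap_i,
      HomologicalComplex.cyclesMap_i, ← Category.assoc, kap_i]
    ext x
    rfl
  rw [cls, cls, Category.assoc, HomologicalComplex.homologyπ_naturality, ← Category.assoc, h1,
    Category.assoc]

end Cls

section Main

variable {R : Type u} [CommRing R] {ι : Type} (g : ι → R) {L : Type u} [AddCommGroup L]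
  [Module R L] (hL : ∀ i, Function.Bijective (fun x : L => g i • x))

/-- cocycles in the two models. -/
noncomputable def zlin (N : Submodule R L) (n : ℕ) :
    LinearMap.ker (d g N (n + 1)) →ₗ[R] Z g N (n + 1) :=
  LinearMap.codRestrict _ ((Θ g hL N (n + 1)).domRestrict _) (fun x => by
    refine ⟨?_, ?_⟩
    · rw [← range_Θ g hL]
      exact ⟨x.1, rfl⟩
    · change D R ι L (n + 1) (Θ g hL N (n + 1) x.1) = 0
      rw [← Θ_d, x.2, map_zero])

theorem zlin_bijective (N : Submodule R L) (n : ℕ) : Function.Bijective (zlin g hL N n) := by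
  constructor
  · intro x y h
    exact Subtype.ext (Θ_injective g hL N (n + 1) (congrArg Subtype.val h))
  · rintro ⟨c, hc, hc'⟩
    rw [← range_Θ g hL] at hc
    obtain ⟨x, rfl⟩ := hc
    refine ⟨⟨x, ?_⟩, rfl⟩
    rw [LinearMap.mem_ker]
    have h0 : D R ι L (n + 1) (Θ g hL N (n + 1) x) = 0 := hc'
    rw [← Θ_d] at h0
    exact Θ_injective g hL N _ (h0.trans (map_zero _).symm)

/-- cocycles in the two models. -/
noncomputable def zEquiv (N : Submodule R L) (n : ℕ) :
    LinearMap.ker (d g N (n + 1)) ≃ₗ[R] Z g N (n + 1) :=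
  LinearEquiv.ofBijective (zlin g hL N n) (zlin_bijective g hL N n)

theorem zEquiv_val (N : Submodule R L) (n : ℕ) (x : LinearMap.ker (d g N (n + 1))) :
    (zEquiv g hL N n x).1 = Θ g hL N (n + 1) x.1 := rfl

theorem zEquiv_symm (N : Submodule R L) (n : ℕ) (z : Z g N (n + 1)) :
    Θ g hL N (n + 1) ((zEquiv g hL N n).symm z).1 = z.1 := by
  rw [← zEquiv_val, LinearEquiv.apply_symm_apply]

include hL in
/-- Local cohomology of submodules of `L` by cocycles with values in `L`. -/
theorem exists_pi [Finite ι] [IsNoetherianRing R] (I : Ideal R)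
    (hI : I = Ideal.span (Set.range g)) (n : ℕ) :
    ∃ π : ∀ N : Submodule R L, Z g N (n + 1) →ₗ[R] LocCoh.H I (n + 1) N,
      (∀ N, Function.Surjective (π N)) ∧
      (∀ N z, π N z = 0 ↔ ∃ b ∈ C g N n, D R ι L n b = z.1) ∧
      (∀ (N N' : Submodule R L) (h : N ≤ N') (z : Z g N (n + 1)),
        Groth.Agent.LoccohA.LCTComp.Hmap I (n + 1) (Submodule.inclusion h) (π N z) =
          π N' ⟨z.1, Z_mono g h _ z.2⟩) := by
  obtain ⟨E⟩ := Groth.Agent.Pi1C.CechCmp.nonempty_iso g I hI (n + 1)
  refine ⟨fun N => (E.hom.app (ModuleCat.of R N)).hom ∘ₗ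
    (cls g (ModuleCat.of R N) n).hom ∘ₗ (zEquiv g hL N n).symm.toLinearMap, ?_, ?_, ?_⟩
  · intro N
    have h1 : Function.Surjective (E.hom.app (ModuleCat.of R N)).hom :=
      (ModuleCat.epi_iff_surjective _).1 inferInstance
    exact h1.comp ((cls_surjective g _ n).comp (zEquiv g hL N n).symm.surjective)
  · intro N z
    have h1 : Function.Injective (E.hom.app (ModuleCat.of R N)).hom :=
      (ModuleCat.mono_iff_injective _).1 inferInstance
    have h2 : (cls g (ModuleCat.of R N) n).hom ((zEquiv g hL N n).symm z) = 0 ↔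
        ∃ b ∈ C g N n, D R ι L n b = z.1 := by
      rw [cls_eq_zero_iff]
      constructor
      · rintro ⟨b, hb⟩
        refine ⟨Θ g hL N n b, ?_, ?_⟩
        · rw [← range_Θ g hL]
          exact ⟨b, rfl⟩
        · rw [← Θ_d, ← zEquiv_symm g hL N n z]
          exact congrArg _ hb
      · rintro ⟨b, hb, hbz⟩
        rw [← range_Θ g hL] at hb
        obtain ⟨b, rfl⟩ := hb
        refine ⟨b, Θ_injective g hL N _ ?_⟩
        rw [zEquiv_symm, ← hbz]
        exact Θ_d g hL N n b
    rw [← h2]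
    exact ⟨fun h => h1 (h.trans (map_zero _).symm), fun h => by
      change (E.hom.app (ModuleCat.of R N)).hom
        ((cls g (ModuleCat.of R N) n).hom ((zEquiv g hL N n).symm z)) = 0
      rw [h]
      exact map_zero (E.hom.app (ModuleCat.of R N)).hom⟩
  · intro N N' h z
    have h1 := congrArg (fun f => f.hom ((cls g (ModuleCat.of R N) n).hom
      ((zEquiv g hL N n).symm z))) (E.hom.naturality (ModuleCat.ofHom (Submodule.inclusion h)))
    have h2 := congrArg (fun f => f.hom ((zEquiv g hL N n).symm z))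
      (cls_naturality g (ModuleCat.ofHom (Submodule.inclusion h)) n)
    have h3 : zmap g (ModuleCat.ofHom (Submodule.inclusion h)) n ((zEquiv g hL N n).symm z) =
        (zEquiv g hL N' n).symm ⟨z.1, Z_mono g h _ z.2⟩ := by
      apply Subtype.ext
      apply Θ_injective g hL N' (n + 1)
      rw [zEquiv_symm]
      exact (Θ_emap g hL h (n + 1) _).trans (zEquiv_symm g hL N n z)
    refine h1.symm.trans ?_
    change (E.hom.app (ModuleCat.of R N')).hom ((HomologicalComplex.homologyMap
      (ecMap g (ModuleCat.ofHom (Submodule.inclusion h))) (n + 1)).hom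
      ((cls g (ModuleCat.of R N) n).hom ((zEquiv g hL N n).symm z))) = _
    have h4 : (HomologicalComplex.homologyMap
      (ecMap g (ModuleCat.ofHom (Submodule.inclusion h))) (n + 1)).hom
      ((cls g (ModuleCat.of R N) n).hom ((zEquiv g hL N n).symm z)) =
      (cls g (ModuleCat.of R N') n).hom ((zEquiv g hL N' n).symm ⟨z.1, Z_mono g h _ z.2⟩) := by
      rw [← h3]
      exact h2
    rw [h4]
    rfl

end Main

end K103.CechSub
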