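import Groth.Agent.LocCoh.K103.DualZero
import Groth.Agent.LoccohB.CMDual

/-!
# A finite set of primes controlling the maps `H^i_m(M) → H^i_m(N)` up to finite length
-/

set_option autoImplicit false

open CategoryTheory Limits Opposite Pretriangulated
attribute [local instance] HasDerivedCategory.standard

namespace K103.DualSet

open Groth.Agent.LoccohB.LocDualBasic Groth.Agent.LoccohB.LocDualDev Groth.Agent.LoccohB.LocDualVan
  Groth.Agent.LoccohB.LocDualTors Groth.Agent.LoccohB.LocDualElt Groth.Agent.LoccohB.LocDualLoc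
  Groth.Agent.LoccohB.LocDualInj Groth.Agent.LoccohB.LocDualBaer Groth.Agent.LoccohB.LocDualMod
  Groth.Agent.LoccohB.LocDualCx Groth.Agent.LoccohB.LocDualFinal
open Groth.Agent.LoccohA.DzExact Groth.Agent.LoccohA.DzExt Groth.Agent.LoccohA.DzDim
  Groth.Agent.LoccohA.DzDual Groth.Agent.LoccohA.DzKappa Groth.Agent.LoccohA.DzOne
open K103.DualZero

universe u w

theorem exists_pow_smul_eq_zero {A : Type u} [CommRing A] [IsNoetherianRing A] [IsLocalRing A]
    (E : Type w) [AddCommGroup E] [Module A E] [Module.Finite A E]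
    (h : ∀ P ∈ associatedPrimes A E, P = IsLocalRing.maximalIdeal A) :
    ∃ k : ℕ, ∀ a ∈ IsLocalRing.maximalIdeal A ^ k, ∀ x : E, a • x = 0 := by
  have h1 : IsLocalRing.maximalIdeal A ≤ (Module.annihilator A E).radical := by
    rw [← Ideal.sInf_minimalPrimes]
    refine le_sInf fun P hP => ?_
    rw [h P (Module.associatedPrimes.minimalPrimes_annihilator_subset_associatedPrimes A E hP)]
  obtain ⟨k, hk⟩ := Ideal.exists_pow_le_of_le_radical_of_fg h1
    (IsNoetherian.noetherian (IsLocalRing.maximalIdeal A))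
  exact ⟨k, fun a ha x => Module.mem_annihilator.1 (hk ha) x⟩

theorem exists_finite_set (A : Type u) [CommRing A] [IsNoetherianRing A] [IsLocalRing A]
    (hA : ∃ ω : Dual.D A, Dual.IsDualizing A ω) (M : Type u) [AddCommGroup M] [Module A M]
    [Module.Finite A M] (i : ℕ) :
    ∃ S : Set (PrimeSpectrum A), S.Finite ∧ (∀ p ∈ S, p ≠ IsLocalRing.closedPoint A) ∧
      ∀ (N : Type u) [AddCommGroup N] [Module A N] [Module.Finite A N] (g : M →ₗ[A] N),
        (∀ p ∈ S, ∀ δ j : ℕ, ringKrullDim (A ⧸ p.asIdeal) = δ → δ + j = i →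
          ∀ x : LocCoh.H p.asIdeal j M, ∃ t : A, t ∉ p.asIdeal ∧
            t • (Groth.Agent.LoccohA.LCTComp.Hmap p.asIdeal j g x) = 0) →
        ∃ k : ℕ, ∀ a ∈ IsLocalRing.maximalIdeal A ^ k,
          ∀ x : LocCoh.H (IsLocalRing.maximalIdeal A) i M,
            a • (Groth.Agent.LoccohA.LCTComp.Hmap (IsLocalRing.maximalIdeal A) i g x) = 0 := by
  obtain ⟨ω₀, hω₀⟩ := hA
  obtain ⟨n, hω, hn⟩ := Groth.Agent.LoccohB.CMDual.exists_normalized A ω₀ hω₀
  set ω := ω₀⟦n⟧ with hωdef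
  obtain ⟨δ, hδ1, -, hδ3, hδ4, -, -, -⟩ :=
    Groth.Agent.LoccohA.DzLocal.exists_delta_normalized hω hn
  -- the data at each prime
  have key : ∀ p : PrimeSpectrum A, Module.Baer A (HL p.asIdeal (ω⟦(-(δ p : ℤ))⟧)) ∧
      (∃ z : HL p.asIdeal (ω⟦(-(δ p : ℤ))⟧), z ≠ 0 ∧ ∀ a ∈ p.asIdeal, a • z = 0) ∧
      (∀ (N : Type u) [AddCommGroup N] [Module A N] [Module.Finite A N] (j : ℤ),
        B p.asIdeal (ω⟦(-(δ p : ℤ))⟧) ((Dual.inD A N)⟦j⟧)) ∧
      (∀ (N : Type u) [AddCommGroup N] [Module A N] [Module.Finite A N] (j : ℤ),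
        Module.Finite A ((Dual.inD A N)⟦j⟧ ⟶ (ω⟦(-(δ p : ℤ))⟧))) := by
    intro p
    obtain ⟨h3, ⟨e, he1, he2⟩, hfin⟩ := data ω hω p (-(δ p : ℤ)) (hδ1 p)
    refine ⟨baer_HL p.asIdeal _ (h3 (-1) (by norm_num)) (h3 1 (by norm_num)),
      exists_socle p.asIdeal _ (h3 (-1) (by norm_num)) e he1, ?_, ?_⟩
    · intro N _ _ _ j
      exact B_module p.asIdeal _ h3 e he1 he2 hfin N j
    · intro N _ _ _ j
      exact finite_shift _ _ j (-j) (by omega) (hfin N (-j))
  let m₀ := IsLocalRing.closedPoint A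
  obtain ⟨-, -, hB0, hfin0⟩ := key m₀
  let W := ω⟦(-(δ m₀ : ℤ))⟧
  let E := (Dual.inD A M)⟦(i : ℤ)⟧ ⟶ W
  have hE : Module.Finite A E := hfin0 M i
  refine ⟨{p | p.asIdeal ∈ associatedPrimes A E ∧ p ≠ m₀}, ?_, fun p hp => hp.2, ?_⟩
  · have h1 : (associatedPrimes A E).Finite := associatedPrimes.finite A E
    refine Set.Finite.of_finite_image (f := PrimeSpectrum.asIdeal) (h1.subset ?_) ?_
    · rintro _ ⟨p, hp, rfl⟩
      exact hp.1
    · intro p _ q _ hpq
      exact PrimeSpectrum.ext hpq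
  · intro N _ _ _ g hg
    have hEN : Module.Finite A ((Dual.inD A N)⟦(i : ℤ)⟧ ⟶ W) := hfin0 N i
    let Im := LinearMap.range (pre W (sh i g))
    have hIm : Module.Finite A Im := inferInstance
    have hass : ∀ P ∈ associatedPrimes A Im, P = IsLocalRing.maximalIdeal A := by
      intro P hP
      by_contra hPm
      have hPE : P ∈ associatedPrimes A E :=
        associatedPrimes.subset_of_injective (f := Im.subtype) Im.injective_subtype hP
      have hPp : P.IsPrime := hPE.isPrime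
      let p : PrimeSpectrum A := ⟨P, hPp⟩
      have hpm : p ≠ m₀ := fun h => hPm (congrArg PrimeSpectrum.asIdeal h)
      obtain ⟨hW, hz, hB, -⟩ := key p
      -- local vanishing
      have hloc : ∀ y : (Dual.inD A N)⟦(i : ℤ)⟧ ⟶ W, ∃ t : A, t ∉ P ∧ t • (sh i g ≫ y) = 0 := by
        intro y
        obtain ⟨y', hy'⟩ := exists_shift ω ((SF A).map (ModuleCat.ofHom g)) (i : ℤ)
          ((i : ℤ) - δ p) (-(δ m₀ : ℤ)) (-(δ p : ℤ)) (δ p : ℤ) (by omega) (by
            have : δ m₀ = 0 := hδ4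
            rw [this]; simp) y
        have h2 : ∀ x : HL P ((Dual.inD A M)⟦((i : ℤ) - δ p)⟧),
            Hmap P (((SF A).map (ModuleCat.ofHom g))⟦((i : ℤ) - δ p)⟧') x = 0 := by
          by_cases hle : δ p ≤ i
          · obtain ⟨j, hj⟩ := Nat.exists_eq_add_of_le hle
            have hj' : (i : ℤ) - δ p = (j : ℤ) := by rw [hj]; push_cast; ring
            rw [hj']
            exact HL_zero_of P j g (hg p ⟨hPE, hpm⟩ (δ p) j (hδ3 p) hj.symm)
          · intro x
            obtain ⟨s, hs, z, hz⟩ := exists_rep_loc P x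
            have hz0 : z = 0 := TI_neg P M _ (by omega) z
            rw [hz0, map_zero] at hz
            have hx0 : x = 0 := smul_inj P hs x hz
            rw [hx0, map_zero]
        obtain ⟨t, ht, hty⟩ := pre_locally_zero P _ _ hW (hB M _) hz h2 y'
        exact ⟨t, ht, hy' t hty⟩
      obtain ⟨-, x, hx⟩ := hP
      obtain ⟨⟨_, y, rfl⟩, hx'⟩ : ∃ x' : Im, x' = x := ⟨x, rfl⟩
      obtain ⟨t, ht, hty⟩ := hloc y
      apply ht
      rw [hx, ← hx']
      exact Ideal.le_radical (Submodule.mem_colon_singleton.2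
        ((Submodule.mem_bot A).2 (Subtype.ext hty)))
    obtain ⟨k, hk⟩ := exists_pow_smul_eq_zero Im hass
    refine ⟨k, fun a ha x => kills_of_HL i g a (fun x => ?_) x⟩
    refine kills_of_pre _ W _ (hB0 N i) a (fun y => ?_) x
    exact congrArg Subtype.val (hk a ha ⟨_, y, rfl⟩)

end K103.DualSet
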