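import Groth.Agent.LoccohB.LocDualFinal
import Groth.Agent.LoccohA.LCTComp
import Groth.Agent.LoccohA.DzLocal

/-!
# Local duality and maps between finite modules
-/

set_option autoImplicit false

open CategoryTheory Limits Opposite Pretriangulated
attribute [local instance] HasDerivedCategory.standard

namespace K103.DualZero

open Groth.Agent.LoccohB.LocDualBasic Groth.Agent.LoccohB.LocDualDev Groth.Agent.LoccohB.LocDualVan
  Groth.Agent.LoccohB.LocDualTors Groth.Agent.LoccohB.LocDualElt Groth.Agent.LoccohB.LocDualLoc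
  Groth.Agent.LoccohB.LocDualInj Groth.Agent.LoccohB.LocDualBaer Groth.Agent.LoccohB.LocDualMod
  Groth.Agent.LoccohB.LocDualCx Groth.Agent.LoccohB.LocDualFinal
open Groth.Agent.LoccohA.DzExact Groth.Agent.LoccohA.DzExt Groth.Agent.LoccohA.DzDim
  Groth.Agent.LoccohA.DzDual Groth.Agent.LoccohA.DzKappa Groth.Agent.LoccohA.DzOne

universe u

section

variable {A : Type u} [CommRing A] (p : Ideal A) [hp : p.IsPrime]

/-- If `H(g) = 0` then `Hom(g, W)` is locally zero at `p`. -/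
theorem pre_locally_zero (W : Dual.D A) {K L : Dual.D A} (g : K ⟶ L)
    (hW : Module.Baer A (HL p W)) (hK : B p W K)
    (hz : ∃ z : HL p W, z ≠ 0 ∧ ∀ a ∈ p, a • z = 0) (h : ∀ x : HL p K, Hmap p g x = 0)
    (y : L ⟶ W) : ∃ t : A, t ∉ p ∧ t • (g ≫ y) = 0 := by
  by_contra hcon
  push Not at hcon
  obtain ⟨z, hz0, hz⟩ := hz
  let u : ULift.{u + 1} A →ₗ[A] A := (ULift.moduleEquiv (R := A) (M := A)).toLinearMap
  obtain ⟨φ, hφ⟩ := baer_extend_of_ker_le hW (LinearMap.toSpanSingleton A (K ⟶ W) (g ≫ y) ∘ₗ u)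
    (LinearMap.toSpanSingleton A (HL p W) z ∘ₗ u) (by
      intro t ht
      rw [LinearMap.mem_ker, LinearMap.comp_apply, LinearMap.toSpanSingleton_apply] at ht
      rw [LinearMap.mem_ker, LinearMap.comp_apply, LinearMap.toSpanSingleton_apply]
      refine hz (u t) ?_
      by_contra htp
      exact hcon (u t) htp ht)
  obtain ⟨x, rfl⟩ := hK.2 φ
  have h1 := hφ ⟨1⟩
  rw [LinearMap.comp_apply, LinearMap.comp_apply, LinearMap.toSpanSingleton_apply,
    LinearMap.toSpanSingleton_apply] at h1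
  have h2 : u ⟨1⟩ = 1 := rfl
  rw [h2, one_smul, one_smul, Phi_apply, Hmap_comp, h x, map_zero] at h1
  exact hz0 h1.symm

/-- If `a` kills the image of `Hom(g, W)` then it kills the image of `H(g)`. -/
theorem kills_of_pre (W : Dual.D A) {K L : Dual.D A} (g : K ⟶ L) (hL : B p W L) (a : A)
    (h : ∀ y : L ⟶ W, a • (g ≫ y) = 0) (x : HL p K) : a • Hmap p g x = 0 := by
  apply hL.1
  rw [map_zero]
  ext y
  rw [map_smul, LinearMap.smul_apply, Phi_apply, ← Hmap_comp, ← Hmap_smul, h y, Hmap_zero]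
  rfl

/-- changing the shift. -/
theorem exists_shift (ω : Dual.D A) {K L : Dual.D A} (g : K ⟶ L) (i j d e n : ℤ) (h1 : j + n = i)
    (h2 : e + n = d) (y : L⟦i⟧ ⟶ ω⟦d⟧) : ∃ y' : L⟦j⟧ ⟶ ω⟦e⟧, ∀ t : A,
      t • (g⟦j⟧' ≫ y') = 0 → t • (g⟦i⟧' ≫ y) = 0 := by
  let α := shiftFunctorAdd' (Dual.D A) j n i h1
  let β := shiftFunctorAdd' (Dual.D A) e n d h2
  obtain ⟨y', hy'⟩ := (shiftFunctor (Dual.D A) n).map_surjective (α.inv.app L ≫ y ≫ β.hom.app ω)
  refine ⟨y', fun t ht => ?_⟩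
  have h3 := congrArg (fun f => (shiftFunctor (Dual.D A) n).map f) ht
  have h4 : (shiftFunctor (Dual.D A) n).map (g⟦j⟧' ≫ y') =
      α.inv.app K ≫ (g⟦i⟧' ≫ y) ≫ β.hom.app ω := by
    rw [Functor.map_comp, hy', Category.assoc]
    exact (α.inv.naturality_assoc g _)
  have h5 : α.inv.app K ≫ (t • (g⟦i⟧' ≫ y)) ≫ β.hom.app ω = 0 := by
    rw [Linear.smul_comp, Linear.comp_smul, ← h4, ← Functor.map_smul]
    exact h3.trans (Functor.map_zero _ _ _)
  have h6 : α.inv.app K ≫ (t • (g⟦i⟧' ≫ y)) = 0 := by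
    rw [← cancel_mono (β.hom.app ω), Category.assoc, h5, zero_comp]
  rw [← cancel_epi (α.inv.app K), h6, comp_zero]

end

section

variable {A : Type u} [CommRing A] (I : Ideal A)

/-- `H^i_I(M) = colim Hom(A/I^n, M[i])`. -/
noncomputable def HTI (i : ℕ) (M : Type u) [AddCommGroup M] [Module A M] :
    LocCoh.H I i M ≃ₗ[A] (TI I).obj ((Dual.inD A M)⟦(i : ℤ)⟧) :=
  Groth.Agent.LoccohA.LCTComp.Hequiv I i M

open Groth.Agent.LoccohA.LCTComp in
theorem HTI_ι (i : ℕ) (M : Type u) [AddCommGroup M] [Module A M] (n : ℕ)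
    (x : ((_root_.Ext A (ModuleCat.{u} A) i).obj (op (ModuleCat.of A (A ⧸ I ^ n)))).obj
      (ModuleCat.of A M)) :
    HTI I i M (lι I i M n x) = inclN I n (oldD (ModuleCat.of A (A ⧸ I ^ n)) (ModuleCat.of A M) i x) :=
  Hequiv_ι I i M n x

/-- The shifted map. -/
noncomputable abbrev sh (i : ℕ) {M M' : Type u} [AddCommGroup M] [Module A M] [AddCommGroup M']
    [Module A M'] (g : M →ₗ[A] M') : (Dual.inD A M)⟦(i : ℤ)⟧ ⟶ (Dual.inD A M')⟦(i : ℤ)⟧ :=
  ((SF A).map (ModuleCat.ofHom g))⟦(i : ℤ)⟧'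

open Groth.Agent.LoccohA.LCTComp in
/-- `HTI` is natural. -/
theorem HTI_map (i : ℕ) {M M' : Type u} [AddCommGroup M] [Module A M] [AddCommGroup M']
    [Module A M'] (g : M →ₗ[A] M') (y : LocCoh.H I i M) :
    HTI I i M' (Groth.Agent.LoccohA.LCTComp.Hmap I i g y) =
      ((TI I).map (sh i g)).hom (HTI I i M y) := by
  obtain ⟨n, x, rfl⟩ := H_exists_rep I i M y
  rw [Hmap_ι, HTI_ι, HTI_ι]
  refine Eq.trans ?_ (TI_map_inclN I (sh i g) n
    (oldD (ModuleCat.of A (A ⧸ I ^ n)) (ModuleCat.of A M) i x)).symm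
  rw [oldD_map]

end

section

variable {A : Type u} [CommRing A] (p : Ideal A) [hp : p.IsPrime]

/-- From local vanishing of the map on local cohomology to the vanishing on `HL`. -/
theorem HL_zero_of (j : ℕ) {M N : Type u} [AddCommGroup M] [Module A M] [AddCommGroup N]
    [Module A N] (g : M →ₗ[A] N)
    (h : ∀ x : LocCoh.H p j M, ∃ t : A, t ∉ p ∧
      t • (Groth.Agent.LoccohA.LCTComp.Hmap p j g x) = 0)
    (x : HL p ((Dual.inD A M)⟦(j : ℤ)⟧)) :
    Groth.Agent.LoccohB.LocDualLoc.Hmap p (sh j g) x = 0 := by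
  obtain ⟨s, hs, m, hm⟩ := exists_rep_loc p x
  refine smul_inj p hs _ ?_
  rw [← map_smul, hm]
  obtain ⟨y, rfl⟩ := (HTI p j M).surjective m
  obtain ⟨t, ht, hty⟩ := h y
  refine smul_inj p ht _ ?_
  have h1 := Hmap_loc p (sh j g) (HTI p j M y)
  rw [← HTI_map p j g y] at h1
  refine (congrArg (fun z => t • z) h1).trans ?_
  rw [← map_smul, ← map_smul, hty, map_zero, map_zero]

end

section

variable {A : Type u} [CommRing A] [IsLocalRing A]

/-- From `HL` at the maximal ideal to local cohomology. -/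
theorem kills_of_HL (i : ℕ) {M N : Type u} [AddCommGroup M] [Module A M] [AddCommGroup N]
    [Module A N] (g : M →ₗ[A] N) (a : A)
    (h : ∀ x : HL (IsLocalRing.maximalIdeal A) ((Dual.inD A M)⟦(i : ℤ)⟧),
      a • Groth.Agent.LoccohB.LocDualLoc.Hmap (IsLocalRing.maximalIdeal A) (sh i g) x = 0)
    (x : LocCoh.H (IsLocalRing.maximalIdeal A) i M) :
    a • (Groth.Agent.LoccohA.LCTComp.Hmap (IsLocalRing.maximalIdeal A) i g x) = 0 := by
  apply (HTI (IsLocalRing.maximalIdeal A) i N).injective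
  rw [map_smul, map_zero, HTI_map]
  have h1 := h (loc (IsLocalRing.maximalIdeal A) _ (HTI (IsLocalRing.maximalIdeal A) i M x))
  rw [Hmap_loc, ← map_smul, mk_eq_zero_iff] at h1
  obtain ⟨s, hs, h2⟩ := h1
  have hu : IsUnit s := by
    by_contra hcon
    exact hs ((IsLocalRing.mem_maximalIdeal s).2 hcon)
  exact (hu.smul_eq_zero).1 h2

end

end K103.DualZero
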