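import Groth.Agent.Ega4A.FlatRegular
import Groth.Agent.EGA41.K103.FlatSeq
import Mathlib.RingTheory.Regular.RegularSequence
import Mathlib.LinearAlgebra.TensorProduct.Finiteness

/-!
# A sequence regular on the closed fibre is regular on `N ⊗ X` for every module `X`
-/

set_option autoImplicit false

open IsLocalRing RingTheory.Sequence Pointwise TensorProduct Submodule

namespace K103.FibreSeq

universe u v w x

section

variable {A : Type u} {B : Type v} [CommRing A] [CommRing B] [Algebra A B]

theorem exact_smul_mkQ (N : Type w) [AddCommGroup N] [Module B N] (y : B) :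
    Function.Exact (fun x : N => y • x) (Submodule.mkQ (y • (⊤ : Submodule B N))) := by
  intro x
  rw [Submodule.mkQ_apply, Submodule.Quotient.mk_eq_zero, Submodule.mem_smul_pointwise_iff_exists]
  constructor
  · rintro ⟨b, -, rfl⟩; exact ⟨b, rfl⟩
  · rintro ⟨b, rfl⟩; exact ⟨b, trivial, rfl⟩

/-- The surjection `N ⊗ X → (N/y) ⊗ X`. -/
noncomputable def proj (N : Type w) [AddCommGroup N] [Module B N] [Module A N]
    [IsScalarTower A B N] (X : Type x) [AddCommGroup X] [Module A X] (y : B) :
    (N ⊗[A] X) →ₗ[B] ((QuotSMulTop y N) ⊗[A] X) :=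
  TensorProduct.AlgebraTensorModule.map (Submodule.mkQ (y • (⊤ : Submodule B N))) LinearMap.id

theorem proj_surjective (N : Type w) [AddCommGroup N] [Module B N] [Module A N]
    [IsScalarTower A B N] (X : Type x) [AddCommGroup X] [Module A X] (y : B) :
    Function.Surjective (proj (A := A) N X y) := by
  have h : Function.Surjective (Submodule.mkQ (y • (⊤ : Submodule B N))) :=
    Submodule.mkQ_surjective (y • (⊤ : Submodule B N))
  exact LinearMap.rTensor_surjective (R := A) X
    (g := (Submodule.mkQ (y • (⊤ : Submodule B N))).restrictScalars A) h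

theorem ker_proj (N : Type w) [AddCommGroup N] [Module B N] [Module A N]
    [IsScalarTower A B N] (X : Type x) [AddCommGroup X] [Module A X] (y : B) :
    LinearMap.ker (proj (A := A) N X y) = y • (⊤ : Submodule B (N ⊗[A] X)) := by
  have h : Function.Surjective (Submodule.mkQ (y • (⊤ : Submodule B N))) :=
    Submodule.mkQ_surjective (y • (⊤ : Submodule B N))
  have h1 := rTensor_exact (R := A) X (f := (LinearMap.lsmul B N y).restrictScalars A)
    (g := (Submodule.mkQ (y • (⊤ : Submodule B N))).restrictScalars A)
    (exact_smul_mkQ N y) h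
  have h3 : ∀ t : N ⊗[A] X,
      LinearMap.rTensor X ((LinearMap.lsmul B N y).restrictScalars A) t = y • t := by
    intro t
    induction t using TensorProduct.induction_on with
    | zero => rw [map_zero, smul_zero]
    | add a b ha hb => rw [map_add, ha, hb, smul_add]
    | tmul n x => rfl
  ext z
  rw [LinearMap.mem_ker, Submodule.mem_smul_pointwise_iff_exists]
  have h2 := h1 z
  constructor
  · intro hz
    obtain ⟨t, ht⟩ := h2.1 hz
    exact ⟨t, trivial, by rw [← h3, ht]⟩
  · rintro ⟨t, -, ht⟩
    exact h2.2 ⟨t, by rw [h3, ht]⟩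

/-- `(N ⊗ X)/y = (N/y) ⊗ X`, linearly over `B`. -/
noncomputable def quotTensor (N : Type w) [AddCommGroup N] [Module B N] [Module A N]
    [IsScalarTower A B N] (X : Type x) [AddCommGroup X] [Module A X] (y : B) :
    QuotSMulTop y (N ⊗[A] X) ≃ₗ[B] (QuotSMulTop y N) ⊗[A] X :=
  (quotEquivOfEq _ _ (ker_proj N X y).symm).trans
    ((proj (A := A) N X y).quotKerEquivOfSurjective (proj_surjective N X y))

end

section

variable {A : Type u} {B : Type v} [CommRing A] [CommRing B]
  [IsLocalRing A] [IsLocalRing B] [IsNoetherianRing A] [IsNoetherianRing B] [Algebra A B]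
  [IsLocalHom (algebraMap A B)]

theorem isSMulRegular_tensor {N : Type w} [AddCommGroup N] [Module B N] [Module A N]
    [IsScalarTower A B N] [Module.Finite B N] [Module.Flat A N] {y : B}
    (hy : IsSMulRegular (N ⧸ (maximalIdeal A).map (algebraMap A B) • (⊤ : Submodule B N)) y)
    (X : Type x) [AddCommGroup X] [Module A X] : IsSMulRegular (N ⊗[A] X) y := by
  rw [isSMulRegular_iff_right_eq_zero_of_smul]
  intro z hz
  obtain ⟨X', hX', hz'⟩ := TensorProduct.exists_finite_submodule_right_of_setFinite
    (R := A) (M := N) (N := X) {z} (Set.finite_singleton z)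
  obtain ⟨t, ht⟩ := hz' (Set.mem_singleton z)
  have : Module.Finite A X' := hX'
  have h1 := Groth.Agent.Ega4A.FlatRegular.isSMulRegular_tensor (R := A) (S := B) hy X'
  have hinj : Function.Injective (TensorProduct.AlgebraTensorModule.lTensor B N X'.subtype) :=
    Module.Flat.lTensor_preserves_injective_linearMap X'.subtype X'.injective_subtype
  have ht' : TensorProduct.AlgebraTensorModule.lTensor B N X'.subtype t = z := ht
  rw [isSMulRegular_iff_right_eq_zero_of_smul] at h1
  have h2 : y • t = 0 := by
    apply hinj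
    rw [map_smul, ht', hz, map_zero]
  rw [← ht', h1 _ h2, map_zero]

theorem isWeaklyRegular_tensor (fs : List B) : ∀ (N : Type w) [AddCommGroup N] [Module B N]
    [Module A N] [IsScalarTower A B N] [Module.Finite B N] [Module.Flat A N],
    IsWeaklyRegular (N ⧸ ((maximalIdeal A).map (algebraMap A B) • (⊤ : Submodule B N))) fs →
    ∀ (X : Type x) [AddCommGroup X] [Module A X], IsWeaklyRegular (N ⊗[A] X) fs := by
  induction fs with
  | nil =>
    intro N _ _ _ _ _ _ _ X _ _
    exact IsWeaklyRegular.nil B _
  | cons x fs ih =>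
    intro N _ _ _ _ _ _ h X _ _
    rw [isWeaklyRegular_cons_iff] at h ⊢
    have h0 : IsSMulRegular (N ⊗[A] X) x := isSMulRegular_tensor (A := A) (B := B) h.1 X
    apply And.intro h0
    have hfl : Module.Flat A (QuotSMulTop x N) :=
      Groth.Agent.Ega4A.FlatRegular.flat_quotSMulTop (R := A) (S := B) h.1
    have h2 := ih (QuotSMulTop x N)
      (((FlatSeq.quotSMulTopQuotEquiv _ x N).isWeaklyRegular_congr fs).mp h.2) X
    exact ((quotTensor (A := A) (B := B) N X x).isWeaklyRegular_congr fs).2 h2

end

end K103.FibreSeq
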