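import Groth.Agent.LocCoh.K103.RegShift
import Groth.Agent.Localalg.LCRows

/-!
# Local cohomology along a flat map with a sequence which is regular on all the fibres
-/

set_option autoImplicit false

open RingTheory.Sequence CategoryTheory TensorProduct
open Groth.Agent.Localalg.Gam Groth.Agent.Localalg.LCRows

namespace K103.FlatShift

universe u

variable {R : Type u} [CommRing R] [IsNoetherianRing R] {C : Type u} [CommRing C]
  [IsNoetherianRing C] [Algebra R C] [Module.Flat R C] (q : Ideal R) (J : Ideal C) (ys : List C)
  (hJ : (q.map (algebraMap R C) ⊔ Ideal.ofList ys).radical = J.radical)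
  (hys : ∀ (X : Type u) [AddCommGroup X] [Module R X], IsWeaklyRegular (C ⊗[R] X) ys)

include hys in
theorem isWeaklyRegular_lc (M : ModuleCat.{u} R) (j : ℕ) :
    IsWeaklyRegular ((localCohomology (q.map (algebraMap R C)) j).obj ((bc R C).obj M)) ys := by
  obtain ⟨E⟩ := exists_bcIso C q j
  exact ((E.app M).toLinearEquiv.isWeaklyRegular_congr ys).1
    (hys ((localCohomology q j).obj M))

include hJ hys in
theorem subsingleton_of_lt (M : ModuleCat.{u} R) (j : ℕ) (hj : j < ys.length) :
    Subsingleton ((localCohomology J j).obj ((bc R C).obj M)) := by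
  have h := RegShift.subsingleton_of_lt ys _ _ (isWeaklyRegular_lc q ys hys M) j hj
  have e := (localCohomology.isoOfSameRadical hJ j).app ((bc R C).obj M)
  exact (e.toLinearEquiv).symm.toEquiv.subsingleton

include hJ hys in
theorem map_eq_zero {M N : ModuleCat.{u} R} (g : M ⟶ N) (k : ℕ)
    (h : ∀ x : (localCohomology q k).obj M, ∃ s : R, IsUnit (algebraMap R C s) ∧
      s • (((localCohomology q k).map g).hom x) = 0) :
    (localCohomology J (k + ys.length)).map ((bc R C).map g) = 0 := by
  have h1 : (bc R C).map ((localCohomology q k).map g) = 0 := by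
    apply ModuleCat.hom_ext
    apply LinearMap.ext
    intro z
    change LinearMap.baseChange C ((localCohomology q k).map g).hom z = 0
    induction z using TensorProduct.induction_on with
    | zero => rw [map_zero]
    | add a b ha hb => rw [map_add, ha, hb, add_zero]
    | tmul c x =>
      obtain ⟨s, hs, hx⟩ := h x
      rw [LinearMap.baseChange_tmul]
      have h2 : algebraMap R C s • (c ⊗ₜ[R] (((localCohomology q k).map g).hom x)) = 0 := by
        rw [algebraMap_smul, ← TensorProduct.tmul_smul, hx, TensorProduct.tmul_zero]
      exact (hs.smul_eq_zero).1 h2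
  have h2 : (localCohomology (q.map (algebraMap R C)) k).map ((bc R C).map g) = 0 := by
    obtain ⟨E⟩ := exists_bcIso C q k
    rw [← cancel_epi (E.hom.app M), Limits.comp_zero]
    refine (E.hom.naturality g).symm.trans ?_
    change (bc R C).map ((localCohomology q k).map g) ≫ _ = 0
    rw [h1, Limits.zero_comp]
  have h3 := RegShift.map_eq_zero ys _ _ _ (isWeaklyRegular_lc q ys hys M)
    (isWeaklyRegular_lc q ys hys N) ((bc R C).map g) k h2
  have E := localCohomology.isoOfSameRadical hJ (k + ys.length)
  rw [← cancel_epi (E.hom.app ((bc R C).obj M)), Limits.comp_zero, ← E.hom.naturality, h3,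
    Limits.zero_comp]

end K103.FlatShift
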