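import Groth.Agent.LocCoh.K103.HLMain

/-!
# Vanishing of local cohomology of the absolute integral closure
-/

set_option autoImplicit false

open IsLocalRing CategoryTheory
open K103.CechSub hiding C
open K103.CechFrob K103.LocStep

namespace K103.HLFinal

universe u

theorem subsingleton_zero (R : Type u) [CommRing R] [IsLocalRing R] [IsNoetherianRing R]
    (M : Type u) [AddCommGroup M] [Module R M] (a : R) (ha : a ∈ maximalIdeal R)
    (h : ∀ x : M, a • x = 0 → x = 0) : Subsingleton (LocCoh.H (maximalIdeal R) 0 M) := by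
  refine subsingleton_of_forall_eq 0 fun x => ?_
  obtain ⟨f, hf⟩ := Groth.Agent.Localalg.LCIface.exists_H0 (maximalIdeal R) M
  obtain ⟨n, hn⟩ := Groth.Agent.Localalg.LCIface.isPowerTorsion_H (maximalIdeal R) M 0 x
  have h1 : a ^ n • x = 0 := hn _ (Ideal.pow_mem_pow ha n)
  have h2 : a ^ n • f x = 0 := by rw [← map_smul, h1, map_zero]
  have h3 : ∀ (k : ℕ) (y : M), a ^ k • y = 0 → y = 0 := by
    intro k
    induction k with
    | zero => intro y hy; rwa [pow_zero, one_smul] at hy
    | succ k ih =>
      intro y hy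
      rw [pow_succ, mul_smul] at hy
      exact h _ (ih _ hy)
  exact hf ((h3 n _ h2).trans (map_zero f).symm)

theorem subsingleton_integralClosure (p : ℕ) [Fact p.Prime] (L : Type u) [Field L]
    [IsAlgClosed L] [CharP L p] (R : Type u) [CommRing R] [IsDomain R] [IsLocalRing R]
    [IsNoetherianRing R] [Algebra R L] (hinj : Function.Injective (algebraMap R L))
    (hR : CAlg.IsUniversallyCatenary R) (hG : CAlg.IsGRing R) (i : ℕ)
    (hi : (i : WithBot ℕ∞) < ringKrullDim R) :
    Subsingleton (LocCoh.H (maximalIdeal R) i (integralClosure R L)) := by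
  have hm : maximalIdeal R ≠ ⊥ := by
    intro hm
    have h1 : ringKrullDim R = 0 := by
      rw [← IsLocalRing.maximalIdeal_height_eq_ringKrullDim, hm]
      simp
    rw [h1] at hi
    exact (not_lt.2 (by positivity : (0 : WithBot ℕ∞) ≤ (i : WithBot ℕ∞))) hi
  obtain ⟨ι, hι, i₀, g, hg, hI⟩ := exists_generators (maximalIdeal R) hm
  have hgL : ∀ i, algebraMap R L (g i) ≠ 0 := fun i hi =>
    hg i (hinj (hi.trans (map_zero _).symm))
  have hL : ∀ i, Function.Bijective (fun x : L => g i • x) := by
    intro i
    have h1 : (fun x : L => g i • x) = fun x => algebraMap R L (g i) * x := by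
      funext x; rw [Algebra.smul_def]
    rw [h1]
    exact mulLeft_bijective₀ _ (hgL i)
  have hPT : PT L R := by
    have hd : ∃ d : ℕ, ringKrullDim R ≤ d := by
      obtain ⟨d, hd⟩ := ENat.ne_top_iff_exists.1 ((maximalIdeal R).height_ne_top
        (IsLocalRing.maximalIdeal.isMaximal R).ne_top)
      refine ⟨d, ?_⟩
      rw [← IsLocalRing.maximalIdeal_height_eq_ringKrullDim, ← hd]
      rfl
    obtain ⟨d, hd⟩ := hd
    exact HLMain.main p L d R hinj hR hG hd
  rcases i with _ | n
  · refine subsingleton_zero R _ (g i₀) (hI ▸ Ideal.subset_span ⟨i₀, rfl⟩) fun x hx => ?_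
    apply Subtype.ext
    have h3 : algebraMap R L (g i₀) * (x : L) = 0 := by
      rw [← Algebra.smul_def]
      exact congrArg Subtype.val hx
    exact (mul_eq_zero.1 h3).resolve_left (hgL i₀)
  obtain ⟨π, hπ1, hπ2, hπ3⟩ := exists_pi g hL (maximalIdeal R) hI n
  refine subsingleton_of_forall_eq 0 fun x => ?_
  obtain ⟨z, rfl⟩ := hπ1 (Subalgebra.toSubmodule (integralClosure R L)) x
  -- the cocycle lives on a finite subalgebra
  have hden := z.2.1
  choose m hm' using hden
  have hbot : Module.Finite R (⊥ : Subalgebra R L) := inferInstance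
  obtain ⟨T, -, hTfin, hT⟩ := CechKill.exists_subalgebra (⊥ : Subalgebra R L)
    (Set.range fun s => (∏ j, g (s j)) ^ (m s) • z.1 s) (Set.finite_range _) (by
      rintro _ ⟨s, rfl⟩
      exact hm' s)
  have hzT : z.1 ∈ Z g (Subalgebra.toSubmodule T) (n + 1) :=
    ⟨fun s => ⟨m s, hT ⟨s, rfl⟩⟩, z.2.2⟩
  obtain ⟨T', hTT', hT'fin, hzero⟩ := hPT T hTfin (n + 1) hi
  have h1 := hzero (π _ ⟨z.1, hzT⟩)
  rw [hπ3 _ _ hTT'] at h1
  obtain ⟨b, hb, hbz⟩ := (hπ2 _ _).1 h1
  have hT'le : T' ≤ integralClosure R L := fun y hy =>
    (Algebra.IsIntegral.isIntegral (R := R) (⟨y, hy⟩ : T')).map T'.val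
  exact (hπ2 _ _).2 ⟨b, C_mono g hT'le n hb, hbz⟩

theorem locAlg_integralClosure {R : Type u} [CommRing R] {L : Type u} [Field L] [Algebra R L]
    (q : Ideal R) [q.IsPrime] {C : Type u} [CommRing C] [Algebra R C] [Algebra C L]
    [IsScalarTower R C L] [IsLocalization.AtPrime C q] :
    locAlg q C (integralClosure R L) = integralClosure C L := by
  ext x
  constructor
  · rintro ⟨s, hs, hx⟩
    refine smul_cancel (R := R) q hs (S' := integralClosure C L) ?_
    exact IsIntegral.tower_top (A := C) hx
  · intro hx
    obtain ⟨m, h⟩ := IsIntegral.exists_multiple_integral_of_isLocalization q.primeCompl x hx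
    exact ⟨m.1, m.2, h⟩

theorem subsingleton_congr {R : Type u} [CommRing R] (I : Ideal R) (i : ℕ) {M N : Type u}
    [AddCommGroup M] [Module R M] [AddCommGroup N] [Module R N] (e : M ≃ₗ[R] N)
    (h : Subsingleton (LocCoh.H I i N)) : Subsingleton (LocCoh.H I i M) :=
  (((localCohomology I i).mapIso e.toModuleIso).toLinearEquiv).toEquiv.subsingleton

/-- The final form, for any algebraically closed field containing `R`. -/
theorem final (p : ℕ) [Fact p.Prime] (L : Type u) [Field L] [IsAlgClosed L] [CharP L p]
    (R : Type u) [CommRing R] [IsDomain R] [IsNoetherianRing R] [Algebra R L]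
    (hinj : Function.Injective (algebraMap R L)) (hR : CAlg.IsUniversallyCatenary R)
    (hG : CAlg.IsGRing R) (q : Ideal R) [q.IsPrime] (i : ℕ) (hi : (i : ℕ∞) < q.height) :
    Subsingleton (LocCoh.H (maximalIdeal (Localization.AtPrime q)) i
      (LocalizedModule q.primeCompl ↥(integralClosure R L))) := by
  have hu : ∀ y : q.primeCompl, IsUnit (algebraMap R L y) := by
    intro y
    refine isUnit_iff_ne_zero.2 fun h => y.2 ?_
    have h0 : (y : R) = 0 := hinj (h.trans (map_zero _).symm)
    rw [h0]
    exact q.zero_mem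
  let f : Localization.AtPrime q →+* L := IsLocalization.lift hu
  let _ : Algebra (Localization.AtPrime q) L := f.toAlgebra
  have hst : IsScalarTower R (Localization.AtPrime q) L :=
    IsScalarTower.of_algebraMap_eq fun x => (IsLocalization.lift_eq hu x).symm
  have hle : q.primeCompl ≤ nonZeroDivisors R := q.primeCompl_le_nonZeroDivisors
  have hdom : IsDomain (Localization.AtPrime q) := IsLocalization.isDomain_localization hle
  have hNoeth : IsNoetherianRing (Localization.AtPrime q) :=
    IsLocalization.isNoetherianRing q.primeCompl _ inferInstance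
  have hinj' : Function.Injective (algebraMap (Localization.AtPrime q) L) := by
    rw [injective_iff_map_eq_zero]
    intro x hx
    obtain ⟨⟨a, s⟩, h⟩ := IsLocalization.surj q.primeCompl x
    have h1 : algebraMap R L a = 0 := by
      rw [IsScalarTower.algebraMap_apply R (Localization.AtPrime q) L, ← h, map_mul, hx, zero_mul]
    have h2 : a = 0 := hinj (h1.trans (map_zero _).symm)
    have h3 : x * algebraMap R (Localization.AtPrime q) s = 0 := by
      rw [h, h2, map_zero]
    exact ((IsLocalization.map_units (Localization.AtPrime q) s).mul_left_eq_zero).1 h3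
  have hmain := K103.HLFinal.subsingleton_integralClosure p L (Localization.AtPrime q) hinj'
    (Groth.Agent.CalgA.UnivCat.isUniversallyCatenary_of_isLocalization q.primeCompl hR)
    (Groth.Agent.Ega4B.GRingLoc.isGRing_of_isLocalization R _ q.primeCompl hG) i (by
      rw [IsLocalization.AtPrime.ringKrullDim_eq_height q (Localization.AtPrime q)]
      exact_mod_cast hi)
  rw [← K103.HLFinal.locAlg_integralClosure q (C := Localization.AtPrime q)] at hmain
  have e : LocalizedModule q.primeCompl ↥(integralClosure R L) ≃ₗ[Localization.AtPrime q]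
      ↥(K103.LocStep.locAlg q (Localization.AtPrime q) (integralClosure R L)) :=
    LinearEquiv.extendScalarsOfIsLocalization q.primeCompl (Localization.AtPrime q)
      (IsLocalizedModule.iso q.primeCompl
        (K103.LocStep.ιloc q (Localization.AtPrime q) (integralClosure R L)))
  exact K103.HLFinal.subsingleton_congr _ i e hmain

end K103.HLFinal
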