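import Groth.Agent.LoccohA.DzLocal
import Groth.Agent.LoccohB.CMDual
import Groth.Agent.LoccohA.RatliffD
import Groth.Agent.S0376

/-!
# The dimension formula in an equidimensional local ring with a dualizing complex
-/

set_option autoImplicit false

open IsLocalRing

namespace K103.HLNum

universe u

/-- `dim A ≤ dim A/P + ht P`. -/
theorem le_add_height (A : Type u) [CommRing A] [IsNoetherianRing A] [IsLocalRing A]
    (hA : ∃ ω : Dual.D A, Dual.IsDualizing A ω) (d : WithBot ℕ∞)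
    (heq : ∀ P₀ ∈ minimalPrimes A, ringKrullDim (A ⧸ P₀) = d) (P : Ideal A) [hP : P.IsPrime] :
    ∃ δ : ℕ, ringKrullDim (A ⧸ P) = δ ∧ d ≤ ((δ : ℕ∞) + P.height : ℕ∞) := by
  obtain ⟨ω₀, hω₀⟩ := hA
  obtain ⟨n, hω, hn⟩ := Groth.Agent.LoccohB.CMDual.exists_normalized A ω₀ hω₀
  obtain ⟨δ, -, -, hδ3, -, -, hδ6, -⟩ :=
    Groth.Agent.LoccohA.DzLocal.exists_delta_normalized hω hn
  obtain ⟨P₀, hP₀, hle⟩ := Ideal.exists_minimalPrimes_le (I := ⊥) (J := P) bot_le
  have hP₀p : P₀.IsPrime := hP₀.1.1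
  let p : PrimeSpectrum A := ⟨P, hP⟩
  let p₀ : PrimeSpectrum A := ⟨P₀, hP₀p⟩
  have hpp : p₀ ≤ p := hle
  refine ⟨δ p, hδ3 p, ?_⟩
  rw [← heq P₀ hP₀, hδ3 p₀]
  have h1 := hδ6 p₀ p hpp
  have h2 : Order.height (⟨p, hpp⟩ : Set.Ici p₀) ≤ Order.height p :=
    Order.height_le_height_apply_of_strictMono (fun x : Set.Ici p₀ => (x : PrimeSpectrum A))
      (fun _ _ h => h) _
  have h3 : Order.height p = P.height := (PrimeSpectrum.height_eq_orderHeight p).symm
  rw [h1, h3] at h2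
  have h4 : ((δ p₀ : ℕ) : ℕ∞) ≤ (δ p : ℕ∞) + P.height := by
    refine le_trans ?_ (add_le_add_right h2 _)
    exact_mod_cast (by omega : δ p₀ ≤ δ p + (δ p₀ - δ p))
  exact_mod_cast h4

/-- The completion of a universally catenary local domain. -/
theorem cpl_le_add_height (R : Type u) [CommRing R] [IsDomain R] [IsNoetherianRing R]
    [IsLocalRing R] (hR : CAlg.IsUniversallyCatenary R)
    (P : Ideal (AdicCompletion (maximalIdeal R) R)) [hP : P.IsPrime] :
    ∃ δ : ℕ, ringKrullDim (AdicCompletion (maximalIdeal R) R ⧸ P) = δ ∧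
      ringKrullDim R ≤ ((δ : ℕ∞) + P.height : ℕ∞) := by
  refine le_add_height _ (Groth.Agent.S0376.result _) _ (fun P₀ hP₀ => ?_) P
  exact Groth.Agent.LoccohA.RatliffD.ratliff_domain R (AdicCompletion (maximalIdeal R) R)
    (AdicCompletion.maximalIdeal_eq_map).symm (Groth.Agent.LoccohA.RatliffD.cpl_surj R) hR P₀ hP₀

end K103.HLNum
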