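import Groth.Agent.LocCoh.K103.LocStep
import Groth.Agent.LocCoh.K103.DualSet
import Groth.Agent.LocCoh.K103.HLNum
import Groth.Agent.S0600
import Groth.Agent.Pi1C.CompletionGlue
import Groth.Agent.Ega4B.GRingLoc
import Groth.Agent.CalgA.UnivCat

/-!
# The theorem of Hochster–Huneke, following Huneke–Lyubeznik
-/

set_option autoImplicit false

open IsLocalRing CategoryTheory TensorProduct
open Groth.Agent.Localalg.Gam Groth.Agent.Localalg.LCRows
open K103.CechFrob K103.LocStep

namespace K103.HLMain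

universe u

section Step

variable {R : Type u} [CommRing R] [IsLocalRing R] [IsNoetherianRing R] {L : Type u} [Field L]
  [Algebra R L]

/-- the base change of the inclusion. -/
noncomputable abbrev binc (A : Type u) [CommRing A] [Algebra R A] {S T : Subalgebra R L}
    (h : S ≤ T) : A ⊗[R] S →ₗ[A] A ⊗[R] T :=
  LinearMap.baseChange A
    (Submodule.inclusion (p := Subalgebra.toSubmodule S) (p' := Subalgebra.toSubmodule T) h)

/-- Descent from the completion. -/
theorem descent (A : Type u) [CommRing A] [IsLocalRing A] [IsNoetherianRing A] [Algebra R A]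
    [Module.FaithfullyFlat R A] (hm : maximalIdeal A = (maximalIdeal R).map (algebraMap R A))
    {S T : Subalgebra R L} (h : S ≤ T) (i k : ℕ)
    (hk : ∀ a ∈ maximalIdeal A ^ k, ∀ x : LocCoh.H (maximalIdeal A) i (A ⊗[R] S),
      a • (Groth.Agent.LoccohA.LCTComp.Hmap (maximalIdeal A) i (binc A h) x) = 0) :
    ∀ a ∈ maximalIdeal R ^ k, ∀ x, a • HM (maximalIdeal R) i h x = 0 := by
  rw [hm] at hk
  intro a ha x
  obtain ⟨E⟩ := exists_bcIso A (maximalIdeal R) i
  have h1 : Function.Injective (E.hom.app (ModuleCat.of R T)).hom :=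
    (ModuleCat.mono_iff_injective _).1 inferInstance
  have ha' : algebraMap R A a ∈ ((maximalIdeal R).map (algebraMap R A)) ^ k := by
    rw [← Ideal.map_pow]
    exact Ideal.mem_map_of_mem _ ha
  have h2 := congrArg (fun φ => φ.hom ((1 : A) ⊗ₜ[R] x)) (E.hom.naturality (inc h))
  have h3 := hk _ ha' ((E.hom.app (ModuleCat.of R S)).hom ((1 : A) ⊗ₜ[R] x))
  have h4 : (E.hom.app (ModuleCat.of R T)).hom
      (algebraMap R A a • ((1 : A) ⊗ₜ[R] (HM (maximalIdeal R) i h x) :
        A ⊗[R] (LocCoh.H (maximalIdeal R) i T))) = 0 := by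
    refine ((E.hom.app (ModuleCat.of R T)).hom.map_smul (algebraMap R A a)
      ((1 : A) ⊗ₜ[R] (HM (maximalIdeal R) i h x) :
        A ⊗[R] (LocCoh.H (maximalIdeal R) i T))).trans ?_
    refine Eq.trans ?_ h3
    exact congrArg (fun z => algebraMap R A a • z) h2
  have h5 : algebraMap R A a • ((1 : A) ⊗ₜ[R] (HM (maximalIdeal R) i h x) :
        A ⊗[R] (LocCoh.H (maximalIdeal R) i T)) = 0 := h1 (h4.trans (map_zero _).symm)
  rw [algebraMap_smul, ← TensorProduct.tmul_smul] at h5
  exact Module.FaithfullyFlat.tensorProduct_mk_injective (A := R) (B := A)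
    (LocCoh.H (maximalIdeal R) i T) (h5.trans (TensorProduct.tmul_zero _ _).symm)

/-- The condition at a prime of the completion. -/
def Cond (A : Type u) [CommRing A] [Algebra R A] (S : Subalgebra R L) (i : ℕ)
    (P : PrimeSpectrum A) (T : Subalgebra R L) : Prop :=
  ∃ h : S ≤ T, ∀ δ j : ℕ, ringKrullDim (A ⧸ P.asIdeal) = δ → δ + j = i →
    ∀ x : LocCoh.H P.asIdeal j (A ⊗[R] S), ∃ t : A, t ∉ P.asIdeal ∧
      t • (Groth.Agent.LoccohA.LCTComp.Hmap P.asIdeal j (binc A h) x) = 0

omit [IsLocalRing R] [IsNoetherianRing R] in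
theorem Cond.mono (A : Type u) [CommRing A] [Algebra R A] (S : Subalgebra R L) (i : ℕ)
    (P : PrimeSpectrum A) (T T' : Subalgebra R L) (hT : T ≤ T') (h : Cond A S i P T) :
    Cond A S i P T' := by
  obtain ⟨h, h'⟩ := h
  refine ⟨h.trans hT, fun δ j hδ hj x => ?_⟩
  obtain ⟨t, ht, htx⟩ := h' δ j hδ hj x
  refine ⟨t, ht, ?_⟩
  have h1 : binc A (h.trans hT) = binc A hT ∘ₗ binc A h := by
    rw [← LinearMap.baseChange_comp]
    rfl
  rw [h1, ← Hmap_comp, ← map_smul, htx, map_zero]

omit [IsLocalRing R] in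
theorem exists_cond (A : Type u) [CommRing A] [IsNoetherianRing A] [Algebra R A]
    (hRA : CAlg.IsRegularHom R A) (S : Subalgebra R L) [Module.Finite R S] (i : ℕ)
    (P : PrimeSpectrum A) (q : Ideal R) [q.IsPrime] [P.asIdeal.LiesOver q]
    [Algebra (Localization.AtPrime q) L] [IsScalarTower R (Localization.AtPrime q) L]
    (hPT : PT L (Localization.AtPrime q)) (δ₀ : ℕ)
    (hδ₀ : ringKrullDim (A ⧸ P.asIdeal) = δ₀) (hi : (i : ℕ∞) < δ₀ + P.asIdeal.height) :
    ∃ T : Subalgebra R L, S ≤ T ∧ Module.Finite R T ∧ Cond A S i P T := by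
  obtain ⟨c, hc, h1, h2⟩ := StepB.stepB hRA P.asIdeal q
  have huniq : ∀ δ : ℕ, ringKrullDim (A ⧸ P.asIdeal) = δ → δ = δ₀ := by
    intro δ hδ
    rw [hδ₀] at hδ
    exact_mod_cast hδ.symm
  by_cases hlt : i < δ₀ + c
  · refine ⟨S, le_rfl, inferInstance, le_rfl, fun δ j hδ hj x => ?_⟩
    obtain rfl := huniq δ hδ
    obtain ⟨t, ht, htx⟩ := h1 (ModuleCat.of R S) j (by omega) x
    refine ⟨t, ht, ?_⟩
    refine (map_smul (Groth.Agent.LoccohA.LCTComp.Hmap P.asIdeal j (binc A le_rfl)) t x).symm.trans ?_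
    exact (congrArg _ htx).trans (map_zero _)
  · obtain ⟨k, hk⟩ := Nat.exists_eq_add_of_le (not_lt.1 hlt)
    have hkq : (k : ℕ∞) < q.height := by
      rw [hc, hk] at hi
      by_contra hcon
      rw [not_lt] at hcon
      refine hi.not_ge ?_
      push_cast
      calc (δ₀ : ℕ∞) + (q.height + c) ≤ δ₀ + (k + c) := by gcongr
        _ = δ₀ + c + k := by ring
    obtain ⟨T, hT, hfin, hzero⟩ := exists_loc_zero q hPT S k (by
      rw [IsLocalization.AtPrime.ringKrullDim_eq_height q (Localization.AtPrime q)]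
      exact_mod_cast hkq)
    refine ⟨T, hT, hfin, hT, fun δ j hδ hj x => ?_⟩
    obtain rfl := huniq δ hδ
    obtain rfl : j = k + c := by omega
    exact h2 (inc hT) k hzero x

end Step

section Main

variable (p : ℕ) [Fact p.Prime] (L : Type u) [Field L] [IsAlgClosed L] [CharP L p]

include p in
/-- One step of the induction. -/
theorem main_step (R : Type u) [CommRing R] [IsDomain R] [IsLocalRing R] [IsNoetherianRing R]
    [Algebra R L] (hinj : Function.Injective (algebraMap R L)) (hR : CAlg.IsUniversallyCatenary R)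
    (hG : CAlg.IsGRing R)
    (IH : ∀ (q : Ideal R) [q.IsPrime], q ≠ maximalIdeal R →
      ∃ (_ : Algebra (Localization.AtPrime q) L) (_ : IsScalarTower R (Localization.AtPrime q) L),
        PT L (Localization.AtPrime q)) : PT L R := by
  intro S hS i hi
  let A := AdicCompletion (maximalIdeal R) R
  have hRA : CAlg.IsRegularHom R A := Groth.Agent.S0600.result R hG (maximalIdeal R)
  have hmA : maximalIdeal A = (maximalIdeal R).map (algebraMap R A) :=
    AdicCompletion.maximalIdeal_eq_map
  have hMfin : Module.Finite A (A ⊗[R] S) := inferInstance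
  obtain ⟨Ps, hPs, hne, hmain⟩ := DualSet.exists_finite_set A (Groth.Agent.S0376.result A)
    (A ⊗[R] S) i
  -- the conditions
  have hcond : ∀ P ∈ Ps, ∃ T : Subalgebra R L, S ≤ T ∧ Module.Finite R T ∧ Cond A S i P T := by
    intro P hP
    have hq : P.asIdeal.under R ≠ maximalIdeal R := by
      intro hq
      apply hne P hP
      apply PrimeSpectrum.ext
      refine ((IsLocalRing.maximalIdeal.isMaximal A).eq_of_le P.2.ne_top ?_).symm
      rw [hmA, Ideal.map_le_iff_le_comap]
      exact hq.ge
    obtain ⟨_, _, hPT⟩ := IH (P.asIdeal.under R) hq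
    obtain ⟨δ₀, hδ₀, hle⟩ := HLNum.cpl_le_add_height R hR P.asIdeal
    refine exists_cond A hRA S i P (P.asIdeal.under R) hPT δ₀ hδ₀ ?_
    have h1 := hi.trans_le hle
    exact_mod_cast h1
  obtain ⟨T₁, hST, hfin₁, hT₁⟩ := exists_common (R := R) (L := L) (fun P T => Cond A S i P T)
    (fun P T T' h => Cond.mono A S i P T T' h) S hPs.toFinset
    (fun P hP => hcond P (hPs.mem_toFinset.1 hP))
  -- the image is killed by a power
  obtain ⟨k, hk⟩ : ∃ k : ℕ, ∀ a ∈ maximalIdeal A ^ k,
      ∀ x : LocCoh.H (maximalIdeal A) i (A ⊗[R] S),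
        a • (Groth.Agent.LoccohA.LCTComp.Hmap (maximalIdeal A) i (binc A hST) x) = 0 := by
    refine hmain (A ⊗[R] T₁) (binc A hST) ?_
    intro P hP δ j hδ hj x
    obtain ⟨h, h'⟩ := hT₁ P (hPs.mem_toFinset.2 hP)
    exact h' δ j hδ hj x
  have hk' := descent A hmA hST i k hk
  have hm : maximalIdeal R ≠ ⊥ := by
    intro hm
    have h1 : ringKrullDim R = 0 := by
      rw [← IsLocalRing.maximalIdeal_height_eq_ringKrullDim, hm]
      simp
    rw [h1] at hi
    exact (not_lt.2 (by positivity : (0 : WithBot ℕ∞) ≤ (i : WithBot ℕ∞))) hi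
  obtain ⟨T', hT', hfin', hzero⟩ := stepC p hinj hm S T₁ hST i k hk'
  exact ⟨T', hST.trans hT', hfin', hzero⟩

include p in
/-- **The theorem of Hochster–Huneke / Huneke–Lyubeznik**. -/
theorem main (d : ℕ) : ∀ (R : Type u) [CommRing R] [IsDomain R] [IsLocalRing R]
    [IsNoetherianRing R] [Algebra R L] (_ : Function.Injective (algebraMap R L))
    (_ : CAlg.IsUniversallyCatenary R) (_ : CAlg.IsGRing R) (_ : ringKrullDim R ≤ d),
    PT L R := by
  induction d with
  | zero =>
    intro R _ _ _ _ _ _ _ _ hd S _ i hi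
    exfalso
    exact (not_lt.2 (by positivity : (0 : WithBot ℕ∞) ≤ (i : WithBot ℕ∞))) (hi.trans_le hd)
  | succ d ih =>
    intro R _ _ _ _ _ hinj hR hG hd
    refine main_step p L R hinj hR hG fun q hq hqm => ?_
    have hu : ∀ y : q.primeCompl, IsUnit (algebraMap R L y) := by
      intro y
      refine isUnit_iff_ne_zero.2 fun h => y.2 ?_
      have h0 : (y : R) = 0 := hinj (h.trans (map_zero _).symm)
      rw [h0]
      exact q.zero_mem
    let f : Localization.AtPrime q →+* L := IsLocalization.lift hu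
    let _ : Algebra (Localization.AtPrime q) L := f.toAlgebra
    have hst : IsScalarTower R (Localization.AtPrime q) L :=
      IsScalarTower.of_algebraMap_eq fun x => (IsLocalization.lift_eq hu x).symm
    have hle : q.primeCompl ≤ nonZeroDivisors R := q.primeCompl_le_nonZeroDivisors
    have hdom : IsDomain (Localization.AtPrime q) := IsLocalization.isDomain_localization hle
    have hNoeth : IsNoetherianRing (Localization.AtPrime q) :=
      IsLocalization.isNoetherianRing q.primeCompl _ inferInstance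
    refine ⟨inferInstance, hst, ih (Localization.AtPrime q) ?_ ?_ ?_ ?_⟩
    · rw [injective_iff_map_eq_zero]
      intro x hx
      obtain ⟨⟨a, s⟩, h⟩ := IsLocalization.surj q.primeCompl x
      have h1 : algebraMap R L a = 0 := by
        rw [IsScalarTower.algebraMap_apply R (Localization.AtPrime q) L, ← h, map_mul, hx, zero_mul]
      have h2 : a = 0 := hinj (h1.trans (map_zero _).symm)
      have h3 : x * algebraMap R (Localization.AtPrime q) s = 0 := by
        rw [h, h2, map_zero]
      exact ((IsLocalization.map_units (Localization.AtPrime q) s).mul_left_eq_zero).1 h3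
    · exact Groth.Agent.CalgA.UnivCat.isUniversallyCatenary_of_isLocalization q.primeCompl hR
    · exact Groth.Agent.Ega4B.GRingLoc.isGRing_of_isLocalization R _ q.primeCompl hG
    · rw [IsLocalization.AtPrime.ringKrullDim_eq_height q (Localization.AtPrime q)]
      have h1 : q < maximalIdeal R := lt_of_le_of_ne (IsLocalRing.le_maximalIdeal hq.ne_top) hqm
      have h2 : q.height < (maximalIdeal R).height := Ideal.height_strict_mono_of_isPrime h1
      rw [← IsLocalRing.maximalIdeal_height_eq_ringKrullDim] at hd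
      have h3 : (maximalIdeal R).height ≤ (d + 1 : ℕ) := by exact_mod_cast hd
      have h4 : q.height ≤ (d : ℕ∞) := by
        have h5 := h2.trans_le h3
        push_cast at h5
        exact ENat.lt_natCast_add_one_iff.1 h5
      exact_mod_cast h4

end Main

end K103.HLMain
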