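import Groth.Agent.LocCoh.K103.RegFib
import Groth.Prelude.Def_Found
import Groth.Agent.CalgB.RegHom6

/-!
# Local cohomology along a regular homomorphism, at a prime
-/

set_option autoImplicit false

open IsLocalRing RingTheory.Sequence CategoryTheory TensorProduct
open Groth.Agent.Localalg.Gam Groth.Agent.Localalg.LCRows

namespace K103.StepB

universe u

/-- Transitivity of base change. -/
noncomputable def bcComp (A B C : Type u) [CommRing A] [CommRing B] [CommRing C] [Algebra A B]
    [Algebra B C] [Algebra A C] [IsScalarTower A B C] : bc A B ⋙ bc B C ≅ bc A C :=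
  NatIso.ofComponents (fun M =>
    (TensorProduct.AlgebraTensorModule.cancelBaseChange A B C C M).toModuleIso)
    (fun {M N} f => by
      apply ModuleCat.hom_ext
      apply LinearMap.ext
      intro x
      change C ⊗[B] (B ⊗[A] M) at x
      change TensorProduct.AlgebraTensorModule.cancelBaseChange A B C C N
        (LinearMap.baseChange C (LinearMap.baseChange B f.hom) x) =
        LinearMap.baseChange C f.hom
          (TensorProduct.AlgebraTensorModule.cancelBaseChange A B C C M x)
      induction x using TensorProduct.induction_on with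
      | zero => simp only [map_zero]
      | add a b ha hb => simp only [map_add, ha, hb]
      | tmul c y =>
        induction y using TensorProduct.induction_on with
        | zero => simp only [map_zero, tmul_zero]
        | add a b ha hb => simp only [tmul_add, map_add, ha, hb]
        | tmul b m => simp)

theorem isRegularLocalRing_fibre {A B : Type u} [CommRing A] [CommRing B] [Algebra A B]
    (h : CAlg.IsRegularHom A B) (q : Ideal B) [q.IsPrime] (p : Ideal A) [p.IsPrime]
    [q.LiesOver p] :
    IsRegularLocalRing (Localization.AtPrime q ⧸ p.map (algebraMap A (Localization.AtPrime q))) := by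
  obtain ⟨Q, hQ, hQq⟩ := Groth.Agent.CalgB.RegHom1.exists_prime_fiber (A := A) q p
  have h1 : IsRegularRing (p.Fiber B) :=
    Groth.Agent.CalgB.RegHom6.FieldFib.of_isRegularHom h p.ResidueField inferInstance
  have h2 : IsRegularLocalRing (Localization.AtPrime Q) :=
    Groth.Agent.CalgB.RegHom1.isRegularLocalRing_of_isLocalization Q.primeCompl _
  have key : ∀ (q' : Ideal B) (_ : q'.IsPrime), q' = q →
      IsRegularLocalRing (Localization.AtPrime q' ⧸
        p.map (algebraMap A (Localization.AtPrime q'))) →
      IsRegularLocalRing (Localization.AtPrime q ⧸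
        p.map (algebraMap A (Localization.AtPrime q))) := by
    rintro _ _ rfl h
    exact h
  apply key _ _ hQq
  let q' : Ideal B := Q.comap (Algebra.TensorProduct.includeRight : B →ₐ[A] p.ResidueField ⊗[A] B)
  have hq : q'.LiesOver p := by
    refine ⟨?_⟩
    rw [Ideal.over_def Q p]
    ext x
    simp [q', Ideal.under, Ideal.mem_comap]
  let _ := Localization.AtPrime.algebraOfLiesOver p q'
  have e := Ideal.Fiber.localizationAlgEquivQuotient p Q
  exact IsRegularLocalRing.of_ringEquiv (R := Localization.AtPrime Q) e.toRingEquiv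

theorem exists_seq {R A : Type u} [CommRing R] [CommRing A] [Algebra R A] [IsNoetherianRing R]
    [IsNoetherianRing A] (hRA : CAlg.IsRegularHom R A) (Q : Ideal A) [Q.IsPrime] (q : Ideal R)
    [q.IsPrime] [Q.LiesOver q] :
    ∃ ys : List (Localization.AtPrime Q), Q.height = q.height + ys.length ∧
      (q.map (algebraMap R (Localization.AtPrime Q)) ⊔ Ideal.ofList ys) =
        maximalIdeal (Localization.AtPrime Q) ∧
      ∀ (X : Type u) [AddCommGroup X] [Module R X],
        IsWeaklyRegular (Localization.AtPrime Q ⊗[R] X) ys := by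
  have hfl : Module.Flat R A := hRA.1
  let _ := Localization.AtPrime.algebraOfLiesOver q Q
  have : IsLocalHom (algebraMap (Localization.AtPrime q) (Localization.AtPrime Q)) :=
    Localization.isLocalHom_localRingHom _ _ _ _
  have : IsNoetherianRing (Localization.AtPrime q) :=
    IsLocalization.isNoetherianRing q.primeCompl _ inferInstance
  have : IsNoetherianRing (Localization.AtPrime Q) :=
    IsLocalization.isNoetherianRing Q.primeCompl _ inferInstance
  have h2 : (maximalIdeal (Localization.AtPrime q)).map
      (algebraMap (Localization.AtPrime q) (Localization.AtPrime Q)) =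
      q.map (algebraMap R (Localization.AtPrime Q)) := by
    rw [← Localization.AtPrime.map_eq_maximalIdeal, Ideal.map_map,
      ← IsScalarTower.algebraMap_eq]
  have h3 := isRegularLocalRing_fibre hRA Q q
  rw [← h2] at h3
  obtain ⟨ys, h4, h5, h6⟩ := RegFib.exists_seq h3
  refine ⟨ys, ?_, ?_, ?_⟩
  · rw [IsLocalization.AtPrime.ringKrullDim_eq_height Q (Localization.AtPrime Q),
      IsLocalization.AtPrime.ringKrullDim_eq_height q (Localization.AtPrime q)] at h5
    exact_mod_cast h5
  · rw [← h2]
    exact h4
  · intro X _ _
    exact ((TensorProduct.AlgebraTensorModule.cancelBaseChange R (Localization.AtPrime q)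
      (Localization.AtPrime Q) (Localization.AtPrime Q) X).isWeaklyRegular_congr ys).1
      (h6 (Localization.AtPrime q ⊗[R] X))

theorem exists_smul_eq_zero {A : Type u} [CommRing A] (Q : Ideal A) [Q.IsPrime] (H : Type u)
    [AddCommGroup H] [Module A H] (x : H)
    (h : (1 : Localization.AtPrime Q) ⊗ₜ[A] x = 0) : ∃ t : A, t ∉ Q ∧ t • x = 0 := by
  have h1 : IsLocalizedModule Q.primeCompl (TensorProduct.mk A (Localization.AtPrime Q) H 1) :=
    (isLocalizedModule_iff_isBaseChange Q.primeCompl (Localization.AtPrime Q) _).2
      (TensorProduct.isBaseChange A H (Localization.AtPrime Q))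
  obtain ⟨t, ht⟩ := (IsLocalizedModule.eq_zero_iff Q.primeCompl
    (TensorProduct.mk A (Localization.AtPrime Q) H 1)).1 h
  exact ⟨t.1, t.2, ht⟩

section

variable {R A : Type u} [CommRing R] [CommRing A] [Algebra R A] [IsNoetherianRing R]
    [IsNoetherianRing A] (Q : Ideal A) [Q.IsPrime] (q : Ideal R)
    [q.IsPrime] [Q.LiesOver q] [Module.Flat R A]
    (ys : List (Localization.AtPrime Q))
    (h1 : (q.map (algebraMap R (Localization.AtPrime Q)) ⊔ Ideal.ofList ys) =
        maximalIdeal (Localization.AtPrime Q))
    (h2 : ∀ (X : Type u) [AddCommGroup X] [Module R X],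
        IsWeaklyRegular (Localization.AtPrime Q ⊗[R] X) ys)

omit [q.IsPrime] [Q.LiesOver q] in
include h1 h2 in
theorem loc_zero_of_lt (M : ModuleCat.{u} R) (j : ℕ) (hj : j < ys.length)
    (x : (localCohomology Q j).obj ((bc R A).obj M)) : ∃ t : A, t ∉ Q ∧ t • x = 0 := by
  have : Module.Flat R (Localization.AtPrime Q) := Module.Flat.trans R A _
  have : IsNoetherianRing (Localization.AtPrime Q) :=
    IsLocalization.isNoetherianRing Q.primeCompl _ inferInstance
  apply exists_smul_eq_zero
  have h3 := FlatShift.subsingleton_of_lt q (Q.map (algebraMap A (Localization.AtPrime Q))) ys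
    (by rw [h1, Localization.AtPrime.map_eq_maximalIdeal]) h2 M j hj
  obtain ⟨E⟩ := exists_bcIso (Localization.AtPrime Q) Q j
  let e1 := E.app ((bc R A).obj M)
  let e2 := (localCohomology (Q.map (algebraMap A (Localization.AtPrime Q))) j).mapIso
    ((bcComp R A (Localization.AtPrime Q)).app M)
  have h4 : Subsingleton
      ((bc A (Localization.AtPrime Q)).obj ((localCohomology Q j).obj ((bc R A).obj M))) :=
    ((e1 ≪≫ e2).toLinearEquiv).toEquiv.subsingleton
  exact h4.elim _ _

omit [q.IsPrime] in
include h1 h2 in
theorem loc_zero {M N : ModuleCat.{u} R} (g : M ⟶ N) (k : ℕ)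
    (hg : ∀ x : (localCohomology q k).obj M, ∃ s : R, s ∉ q ∧
      s • (((localCohomology q k).map g).hom x) = 0)
    (x : (localCohomology Q (k + ys.length)).obj ((bc R A).obj M)) :
    ∃ t : A, t ∉ Q ∧ t • (((localCohomology Q (k + ys.length)).map ((bc R A).map g)).hom x) = 0 := by
  have : Module.Flat R (Localization.AtPrime Q) := Module.Flat.trans R A _
  have : IsNoetherianRing (Localization.AtPrime Q) :=
    IsLocalization.isNoetherianRing Q.primeCompl _ inferInstance
  apply exists_smul_eq_zero
  have h3 := FlatShift.map_eq_zero q (Q.map (algebraMap A (Localization.AtPrime Q))) ys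
    (by rw [h1, Localization.AtPrime.map_eq_maximalIdeal]) h2 g k (by
      intro x
      obtain ⟨s, hs, hx⟩ := hg x
      refine ⟨s, ?_, hx⟩
      rw [IsScalarTower.algebraMap_apply R A (Localization.AtPrime Q)]
      apply (IsLocalization.AtPrime.isUnit_to_map_iff (Localization.AtPrime Q) Q _).2
      intro h
      apply hs
      rw [Ideal.over_def Q q]
      exact h)
  obtain ⟨E⟩ := exists_bcIso (Localization.AtPrime Q) Q (k + ys.length)
  let T := bcComp R A (Localization.AtPrime Q)
  have h4 : (bc A (Localization.AtPrime Q)).map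
      ((localCohomology Q (k + ys.length)).map ((bc R A).map g)) = 0 := by
    rw [← cancel_mono (E.hom.app ((bc R A).obj N)), Limits.zero_comp]
    refine (E.hom.naturality ((bc R A).map g)).trans ?_
    have h5 : (bc A (Localization.AtPrime Q)).map ((bc R A).map g) =
        T.hom.app M ≫ (bc R (Localization.AtPrime Q)).map g ≫ T.inv.app N := by
      rw [T.inv.naturality g, T.hom_inv_id_app_assoc]
      rfl
    change E.hom.app ((bc R A).obj M) ≫
      (localCohomology (Q.map (algebraMap A (Localization.AtPrime Q))) (k + ys.length)).map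
        ((bc A (Localization.AtPrime Q)).map ((bc R A).map g)) = 0
    rw [h5, Functor.map_comp, Functor.map_comp, h3, Limits.zero_comp, Limits.comp_zero,
      Limits.comp_zero]
  have h6 := congrArg (fun φ => φ.hom ((1 : Localization.AtPrime Q) ⊗ₜ[A] x)) h4
  exact h6

end

/-- The local statement: `c` is the dimension of the fibre of `R → A` at `Q`. -/
theorem stepB {R A : Type u} [CommRing R] [CommRing A] [Algebra R A] [IsNoetherianRing R]
    [IsNoetherianRing A] (hRA : CAlg.IsRegularHom R A) (Q : Ideal A) [Q.IsPrime] (q : Ideal R)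
    [q.IsPrime] [Q.LiesOver q] :
    ∃ c : ℕ, Q.height = q.height + c ∧
      (∀ (M : ModuleCat.{u} R) (j : ℕ), j < c →
        ∀ x : (localCohomology Q j).obj ((bc R A).obj M), ∃ t : A, t ∉ Q ∧ t • x = 0) ∧
      ∀ {M N : ModuleCat.{u} R} (g : M ⟶ N) (k : ℕ)
        (_ : ∀ x : (localCohomology q k).obj M, ∃ s : R, s ∉ q ∧
          s • (((localCohomology q k).map g).hom x) = 0)
        (x : (localCohomology Q (k + c)).obj ((bc R A).obj M)),
        ∃ t : A, t ∉ Q ∧
          t • (((localCohomology Q (k + c)).map ((bc R A).map g)).hom x) = 0 := by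
  have : Module.Flat R A := hRA.1
  obtain ⟨ys, h0, h1, h2⟩ := exists_seq hRA Q q
  exact ⟨ys.length, h0, fun M j hj x => loc_zero_of_lt Q q ys h1 h2 M j hj x,
    fun g k hg x => loc_zero Q q ys h1 h2 g k hg x⟩

end K103.StepB
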