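import Groth.Agent.LocCoh.K103.CechFrob
import Groth.Agent.LocCoh.K103.StepB

/-!
# Localization of the vanishing property
-/

set_option autoImplicit false

open IsLocalRing CategoryTheory TensorProduct
open Groth.Agent.Localalg.Gam Groth.Agent.Localalg.LCRows
open K103.CechFrob

namespace K103.LocStep

universe u

/-- The vanishing property. -/
def PT (L : Type u) [Field L] (R : Type u) [CommRing R] [IsLocalRing R] [Algebra R L] : Prop :=
  ∀ (S : Subalgebra R L), Module.Finite R S → ∀ i : ℕ, (i : WithBot ℕ∞) < ringKrullDim R →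
    ∃ (T : Subalgebra R L) (h : S ≤ T), Module.Finite R T ∧ ∀ x, HM (maximalIdeal R) i h x = 0

section

variable {R : Type u} [CommRing R] {L : Type u} [Field L] [Algebra R L] (q : Ideal R) [q.IsPrime]
  {C : Type u} [CommRing C] [Algebra R C] [Algebra C L] [IsScalarTower R C L]
  [IsLocalization.AtPrime C q]

/-- The localization of a subalgebra. -/
def locAlg (C : Type u) [CommRing C] [Algebra R C] [Algebra C L] [IsScalarTower R C L]
    [IsLocalization.AtPrime C q] (S : Subalgebra R L) : Subalgebra C L where
  carrier := {x | ∃ s : R, s ∉ q ∧ s • x ∈ S}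
  mul_mem' := by
    rintro x y ⟨s, hs, hx⟩ ⟨t, ht, hy⟩
    refine ⟨s * t, fun h => ((inferInstance : q.IsPrime).mem_or_mem h).elim hs ht, ?_⟩
    rw [← smul_mul_smul_comm]
    exact S.mul_mem hx hy
  add_mem' := by
    rintro x y ⟨s, hs, hx⟩ ⟨t, ht, hy⟩
    refine ⟨s * t, fun h => ((inferInstance : q.IsPrime).mem_or_mem h).elim hs ht, ?_⟩
    rw [smul_add]
    refine S.add_mem ?_ ?_
    · rw [mul_comm, mul_smul]; exact S.smul_mem hx t
    · rw [mul_smul]; exact S.smul_mem hy s
  algebraMap_mem' := by
    intro c
    obtain ⟨⟨a, s⟩, h⟩ := IsLocalization.surj q.primeCompl c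
    refine ⟨s.1, s.2, ?_⟩
    have h1 : (s.1 : R) • algebraMap C L c = algebraMap R L a := by
      rw [Algebra.smul_def, IsScalarTower.algebraMap_apply R C L, ← map_mul, mul_comm, h,
        ← IsScalarTower.algebraMap_apply]
    rw [h1]
    exact S.algebraMap_mem a

theorem mem_locAlg {S : Subalgebra R L} {x : L} :
    x ∈ locAlg q C S ↔ ∃ s : R, s ∉ q ∧ s • x ∈ S := Iff.rfl

theorem subset_locAlg (S : Subalgebra R L) : ∀ x ∈ S, x ∈ locAlg q C S := fun x hx =>
  ⟨1, fun h => (inferInstance : q.IsPrime).ne_top ((Ideal.eq_top_iff_one _).2 h), by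
    rwa [one_smul]⟩

theorem locAlg_mono {S T : Subalgebra R L} (h : S ≤ T) : locAlg q C S ≤ locAlg q C T :=
  fun _ ⟨s, hs, hx⟩ => ⟨s, hs, h hx⟩

/-- The inclusion. -/
def ιloc (C : Type u) [CommRing C] [Algebra R C] [Algebra C L] [IsScalarTower R C L]
    [IsLocalization.AtPrime C q] (S : Subalgebra R L) : S →ₗ[R] locAlg q C S where
  toFun x := ⟨x.1, subset_locAlg q S x.1 x.2⟩
  map_add' _ _ := rfl
  map_smul' _ _ := by
    apply Subtype.ext
    rfl

include q in
theorem isUnit_algebraMap {s : R} (hs : s ∉ q) : IsUnit (algebraMap R C s) :=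
  IsLocalization.map_units C (⟨s, hs⟩ : q.primeCompl)

theorem smul_cancel {s : R} (hs : s ∉ q) {S' : Subalgebra C L} {x : L} (h : s • x ∈ S') :
    x ∈ S' := by
  obtain ⟨u, hu⟩ := isUnit_algebraMap (C := C) q hs
  have h1 : x = (↑(u⁻¹) : C) • (s • x) := by
    rw [← algebraMap_smul C s x, ← hu, smul_smul, Units.inv_mul, one_smul]
  rw [h1]
  exact S'.smul_mem h _

instance isLocalizedModule_ι (S : Subalgebra R L) :
    IsLocalizedModule q.primeCompl (ιloc q C S) where
  map_units s := by
    rw [Module.End.isUnit_iff]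
    obtain ⟨u, hu⟩ := isUnit_algebraMap (C := C) q s.2
    constructor
    · intro x y hxy
      have h1 : s.1 • x = s.1 • y := hxy
      rw [← algebraMap_smul C s.1 x, ← algebraMap_smul C s.1 y, ← hu] at h1
      have h2 := congrArg (fun z => (↑(u⁻¹) : C) • z) h1
      simpa only [smul_smul, Units.inv_mul, one_smul] using h2
    · intro y
      refine ⟨(↑(u⁻¹) : C) • y, ?_⟩
      change s.1 • ((↑(u⁻¹) : C) • y) = y
      rw [← algebraMap_smul C s.1, ← hu, smul_smul, Units.mul_inv, one_smul]
  surj := by
    rintro ⟨y, s, hs, hy⟩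
    exact ⟨⟨⟨s • y, hy⟩, ⟨s, hs⟩⟩, rfl⟩
  exists_of_eq := by
    intro x y hxy
    have h : x = y := Subtype.ext (congrArg (fun z : locAlg q C S => (z : L)) hxy)
    exact ⟨1, by rw [h]⟩

theorem isBaseChange_ι (S : Subalgebra R L) : IsBaseChange C (ιloc q C S) :=
  (isLocalizedModule_iff_isBaseChange q.primeCompl C (ιloc q C S)).1 inferInstance

theorem finite_locAlg (S : Subalgebra R L) [Module.Finite R S] :
    Module.Finite C (locAlg q C S) :=
  Module.Finite.of_isLocalizedModule q.primeCompl (Rₚ := C) (ιloc q C S)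

/-- a finite algebra over the localization is contained in the localization of a finite algebra. -/
theorem exists_descent (S : Subalgebra R L) [Module.Finite R S] (T' : Subalgebra C L)
    [Module.Finite C T'] :
    ∃ T : Subalgebra R L, S ≤ T ∧ Module.Finite R T ∧ T' ≤ locAlg q C T := by
  classical
  obtain ⟨s, hs⟩ := (inferInstance : Module.Finite C T').fg_top
  have h1 : ∀ t : T', ∃ a : R, a ∉ q ∧ IsIntegral R (a • (t : L)) := by
    intro t
    have ht : IsIntegral C (t : L) := (Algebra.IsIntegral.isIntegral (R := C) t).map T'.val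
    obtain ⟨m, h⟩ := IsIntegral.exists_multiple_integral_of_isLocalization q.primeCompl (t : L) ht
    exact ⟨m.1, m.2, h⟩
  choose a ha hai using h1
  obtain ⟨T, hT, hfin, hsub⟩ := CechKill.exists_subalgebra S
    ((fun t : T' => a t • (t : L)) '' (s : Set T')) (s.finite_toSet.image _) (by
      rintro x ⟨t, -, rfl⟩
      exact hai t)
  refine ⟨T, hT, hfin, ?_⟩
  intro x hx
  have hx' : (⟨x, hx⟩ : T') ∈ Submodule.span C (s : Set T') := hs ▸ Submodule.mem_top
  have h2 : ∀ y : T', y ∈ Submodule.span C (s : Set T') → (y : L) ∈ locAlg q C T := by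
    intro y hy
    induction hy using Submodule.span_induction with
    | mem y hy => exact ⟨a y, ha y, hsub ⟨y, hy, rfl⟩⟩
    | zero => exact (locAlg q C T).zero_mem
    | add y z _ _ hy hz => exact (locAlg q C T).add_mem hy hz
    | smul c y _ hy => exact (locAlg q C T).smul_mem hy c
  exact h2 _ hx'

end

section

variable {R : Type u} [CommRing R] [IsNoetherianRing R] {L : Type u} [Field L] [Algebra R L]
  (q : Ideal R) [q.IsPrime] [Algebra (Localization.AtPrime q) L]
  [IsScalarTower R (Localization.AtPrime q) L]

/-- base change of a subalgebra to the localization. -/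
noncomputable def eLoc (S : Subalgebra R L) :
    (bc R (Localization.AtPrime q)).obj (ModuleCat.of R S) ≅
      ModuleCat.of (Localization.AtPrime q) (locAlg q (Localization.AtPrime q) S) :=
  (isBaseChange_ι q (C := Localization.AtPrime q) S).equiv.toModuleIso

/-- The inclusion of subalgebras. -/
noncomputable abbrev inc {R : Type u} [CommRing R] {L : Type u} [Field L] [Algebra R L]
    {S T : Subalgebra R L} (h : S ≤ T) : ModuleCat.of R S ⟶ ModuleCat.of R T :=
  ModuleCat.ofHom
    (Submodule.inclusion (p := Subalgebra.toSubmodule S) (p' := Subalgebra.toSubmodule T) h)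

theorem eLoc_naturality {S T : Subalgebra R L} (h : S ≤ T) :
    (bc R (Localization.AtPrime q)).map (inc h) ≫ (eLoc q T).hom =
      (eLoc q S).hom ≫ inc (locAlg_mono q (C := Localization.AtPrime q) h) := by
  apply ModuleCat.hom_ext
  apply LinearMap.ext
  intro x
  change Localization.AtPrime q ⊗[R] S at x
  change (isBaseChange_ι q (C := Localization.AtPrime q) T).equiv (LinearMap.baseChange _
    (Submodule.inclusion (p := Subalgebra.toSubmodule S) (p' := Subalgebra.toSubmodule T) h) x) =
    (Submodule.inclusion (p := Subalgebra.toSubmodule (locAlg q (Localization.AtPrime q) S))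
      (p' := Subalgebra.toSubmodule (locAlg q (Localization.AtPrime q) T))
      (locAlg_mono q (C := Localization.AtPrime q) h))
      ((isBaseChange_ι q (C := Localization.AtPrime q) S).equiv x)
  induction x using TensorProduct.induction_on with
  | zero => simp only [map_zero]
  | add a b ha hb => simp only [map_add, ha, hb]
  | tmul c y =>
    rw [LinearMap.baseChange_tmul, IsBaseChange.equiv_tmul, IsBaseChange.equiv_tmul, map_smul]
    rfl

/-- From the localization to the local statement. -/
theorem exists_loc_zero (hC : PT L (Localization.AtPrime q)) (S : Subalgebra R L)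
    [Module.Finite R S] (j : ℕ) (hj : (j : WithBot ℕ∞) < ringKrullDim (Localization.AtPrime q)) :
    ∃ (T : Subalgebra R L) (h : S ≤ T), Module.Finite R T ∧
      ∀ x : LocCoh.H q j S, ∃ t : R, t ∉ q ∧ t • HM q j h x = 0 := by
  have hfin := finite_locAlg q (C := Localization.AtPrime q) S
  obtain ⟨T', hT', hfin', hzero⟩ := hC (locAlg q (Localization.AtPrime q) S) hfin j hj
  obtain ⟨T, hST, hTfin, hTT⟩ := exists_descent q (C := Localization.AtPrime q) S T'
  refine ⟨T, hST, hTfin, fun x => ?_⟩
  have h1 : (localCohomology (q.map (algebraMap R (Localization.AtPrime q))) j).map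
      (inc (locAlg_mono q (C := Localization.AtPrime q) hST)) = 0 := by
    rw [Localization.AtPrime.map_eq_maximalIdeal]
    have h2 : inc (locAlg_mono q (C := Localization.AtPrime q) hST) = inc hT' ≫ inc hTT := rfl
    have h3 : (localCohomology (maximalIdeal (Localization.AtPrime q)) j).map (inc hT') = 0 := by
      apply ModuleCat.hom_ext
      apply LinearMap.ext
      intro y
      exact hzero y
    rw [h2, Functor.map_comp, h3, Limits.zero_comp]
  obtain ⟨E⟩ := exists_bcIso (Localization.AtPrime q) q j
  have h4 : (bc R (Localization.AtPrime q)).map ((localCohomology q j).map (inc hST)) = 0 := by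
    rw [← cancel_mono (E.hom.app (ModuleCat.of R T)), Limits.zero_comp]
    refine (E.hom.naturality (inc hST)).trans ?_
    have h5 : (bc R (Localization.AtPrime q)).map (inc hST) =
        (eLoc q S).hom ≫ inc (locAlg_mono q (C := Localization.AtPrime q) hST) ≫
          (eLoc q T).inv := by
      rw [← Category.assoc, ← eLoc_naturality, Category.assoc, Iso.hom_inv_id, Category.comp_id]
    change E.hom.app (ModuleCat.of R S) ≫
      (localCohomology (q.map (algebraMap R (Localization.AtPrime q))) j).map
        ((bc R (Localization.AtPrime q)).map (inc hST)) = 0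
    rw [h5, Functor.map_comp, Functor.map_comp, h1, Limits.zero_comp, Limits.comp_zero,
      Limits.comp_zero]
  apply StepB.exists_smul_eq_zero
  exact congrArg (fun φ => φ.hom ((1 : Localization.AtPrime q) ⊗ₜ[R] x)) h4

end

end K103.LocStep
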