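import Groth.Agent.LocCoh.K103.FibreSeq
import Groth.Agent.LocCoh.K103.FlatShift
import Groth.Agent.CalgB.RegHom1
import Groth.Agent.CalgA.RegBasic

/-!
# Local cohomology along a flat local homomorphism with regular closed fibre
-/

set_option autoImplicit false

open IsLocalRing RingTheory.Sequence CategoryTheory TensorProduct
open Groth.Agent.Localalg.Gam Groth.Agent.Localalg.LCRows

namespace K103.RegFib

universe u

theorem exists_system (A : Type u) [CommRing A] [IsRegularLocalRing A] :
    ∃ rs : List A, Ideal.ofList rs = maximalIdeal A ∧ IsRegular A rs ∧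
      ringKrullDim A = rs.length := by
  classical
  have hfg := (maximalIdeal A).fg_of_isNoetherianRing
  have hfin := Submodule.FG.finite_generators hfg
  let rs : List A := hfin.toFinset.toList
  have hl : rs.length = (maximalIdeal A).spanFinrank := by
    have h1 : (maximalIdeal A).generators.ncard = (maximalIdeal A).spanFinrank :=
      Submodule.FG.generators_ncard hfg
    rw [Finset.length_toList, ← h1, Set.ncard_eq_toFinset_card _ hfin]
  have hspan : Ideal.ofList rs = maximalIdeal A := by
    have h1 : {x | x ∈ rs} = (maximalIdeal A).generators := by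
      ext x
      simp [rs]
    rw [Ideal.ofList, h1]
    exact Submodule.span_generators _
  have hd := (IsRegularLocalRing.spanFinrank_maximalIdeal (R := A)).symm
  exact ⟨rs, hspan, Groth.Agent.CalgA.RegBasic.isRegular_of_ofList_eq _ A rs hl
    hd hspan, by rw [hl]; exact hd⟩

theorem exists_seq {B C : Type u} [CommRing B] [CommRing C] [IsLocalRing B] [IsLocalRing C]
    [IsNoetherianRing B] [IsNoetherianRing C] [Algebra B C] [IsLocalHom (algebraMap B C)]
    [Module.Flat B C]
    (hreg : IsRegularLocalRing (C ⧸ (maximalIdeal B).map (algebraMap B C))) :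
    ∃ ys : List C, (maximalIdeal B).map (algebraMap B C) ⊔ Ideal.ofList ys = maximalIdeal C ∧
      ringKrullDim C = ringKrullDim B + ys.length ∧
      ∀ (X : Type u) [AddCommGroup X] [Module B X], IsWeaklyRegular (C ⊗[B] X) ys := by
  set J := (maximalIdeal B).map (algebraMap B C) with hJ
  have hJle : J ≤ maximalIdeal C :=
    ((IsLocalRing.local_hom_TFAE (algebraMap B C)).out 0 2 rfl rfl).mp inferInstance
  have : (maximalIdeal C).LiesOver (maximalIdeal B) :=
    ⟨(IsLocalRing.maximalIdeal_comap (algebraMap B C)).symm⟩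
  -- the maximal ideal of the quotient
  have hmax : (maximalIdeal C).map (Ideal.Quotient.mk J) = maximalIdeal (C ⧸ J) := by
    refine IsLocalRing.eq_maximalIdeal ?_
    exact Ideal.IsMaximal.map_of_surjective_of_ker_le Ideal.Quotient.mk_surjective
      (by simpa using hJle)
  have hdim : ringKrullDim C = ringKrullDim B + ringKrullDim (C ⧸ J) := by
    rw [← IsLocalRing.maximalIdeal_height_eq_ringKrullDim,
      Ideal.height_eq_height_add_of_liesOver_of_hasGoingDown (maximalIdeal B) (maximalIdeal C),
      ← IsLocalRing.maximalIdeal_height_eq_ringKrullDim,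
      ← IsLocalRing.maximalIdeal_height_eq_ringKrullDim (R := C ⧸ J), ← hJ, hmax]
    push_cast
    rfl
  obtain ⟨rs, hrs, hreg', hd⟩ := exists_system (C ⧸ J)
  obtain ⟨ys, rfl⟩ : ∃ us : List C, us.map (algebraMap C (C ⧸ J)) = rs := by
    have := List.map_surjective_iff.mpr (Ideal.Quotient.mk_surjective (I := J))
    exact this rs
  refine ⟨ys, ?_, ?_, ?_⟩
  · rw [← Ideal.map_ofList] at hrs
    have e3 := congrArg (Ideal.comap (Ideal.Quotient.mk J)) (hrs.trans hmax.symm)
    have e4 : Ideal.comap (Ideal.Quotient.mk J) ⊥ = J := by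
      rw [← RingHom.ker_eq_comap_bot, Ideal.mk_ker]
    have e5 : Ideal.map (algebraMap C (C ⧸ J)) (Ideal.ofList ys) =
      Ideal.map (Ideal.Quotient.mk J) (Ideal.ofList ys) := rfl
    rw [e5, Ideal.comap_map_of_surjective _ Ideal.Quotient.mk_surjective,
      Ideal.comap_map_of_surjective _ Ideal.Quotient.mk_surjective, e4, sup_eq_left.mpr hJle] at e3
    rw [sup_comm, e3]
  · rw [hdim, hd, List.length_map]
  · intro X _ _
    have h1 : IsWeaklyRegular (C ⧸ J) ys :=
      (isWeaklyRegular_map_algebraMap_iff (C ⧸ J) (C ⧸ J) ys).1 hreg'.toIsWeaklyRegular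
    have h2 : (J • (⊤ : Submodule C C)) = J := by
      rw [smul_eq_mul, Ideal.mul_top]
    have e : (C ⧸ ((maximalIdeal B).map (algebraMap B C) • (⊤ : Submodule C C))) ≃ₗ[C] (C ⧸ J) :=
      Submodule.quotEquivOfEq _ _ h2
    exact FibreSeq.isWeaklyRegular_tensor ys C ((e.isWeaklyRegular_congr ys).2 h1) X

end K103.RegFib
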