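import Groth.Agent.LocCoh.K103.WRegUnion
import Groth.Agent.Localalg.LCSeq

/-!
# Local cohomology with respect to `I + (y₁, …, y_c)` when `y` is weakly regular on the `H^j_I`
-/

set_option autoImplicit false

open RingTheory.Sequence CategoryTheory TensorProduct
open Groth.Agent.Localalg.LCSeq

namespace K103.RegShift

universe u

variable {R : Type u} [CommRing R]

/-- The map on local cohomology. -/
noncomputable abbrev lcMap (I : Ideal R) (j : ℕ) {W W' : ModuleCat.{u} R} (f : W ⟶ W') :
    (localCohomology I j).obj W →ₗ[R] (localCohomology I j).obj W' :=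
  ((localCohomology I j).map f).hom

theorem isLocalizedModule_toLoc (y : R) (N : ModuleCat.{u} R) :
    IsLocalizedModule (Submonoid.powers y) ((toLoc y).app N).hom := by
  have h1 : IsLocalizedModule (Submonoid.powers y)
      (TensorProduct.mk R (Localization.Away y) N 1) :=
    (isLocalizedModule_iff_isBaseChange (Submonoid.powers y) (Localization.Away y) _).2
      (TensorProduct.isBaseChange R N (Localization.Away y))
  have h2 : ((toLoc y).app N).hom =
      (locEquiv y N).toLinearMap ∘ₗ (TensorProduct.mk R (Localization.Away y) N 1) := rfl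
  rw [h2]
  exact IsLocalizedModule.of_linearEquiv (Submonoid.powers y) _ _

section

variable [IsNoetherianRing R]

/-- One step: the properties of `H_{I + (y)}` when `y` is regular on all `H^j_I(W)`. -/
theorem step (I : Ideal R) (y : R) :
    ∃ (d : ∀ n, localCohomology I n ⋙ loc y ⟶ localCohomology (I ⊔ Ideal.span {y}) (n + 1)),
      ∀ W : ModuleCat.{u} R, (∀ j, IsSMulRegular ((localCohomology I j).obj W) y) →
        Subsingleton ((localCohomology (I ⊔ Ideal.span {y}) 0).obj W) ∧
        ∀ n, Function.Surjective ((d n).app W).hom ∧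
          Function.Exact ((toLoc y).app ((localCohomology I n).obj W)).hom ((d n).app W).hom := by
  obtain ⟨a, d, h0, h⟩ := exists_natural I y
  refine ⟨d, fun W hW => ?_⟩
  have hinj : ∀ n, Function.Injective ((toLoc y).app ((localCohomology I n).obj W)).hom := by
    intro n
    have := isLocalizedModule_toLoc y ((localCohomology I n).obj W)
    rw [injective_iff_map_eq_zero]
    intro x hx
    rw [IsLocalizedModule.eq_zero_iff (Submonoid.powers y)] at hx
    obtain ⟨⟨_, k, rfl⟩, hk⟩ := hx
    exact (isSMulRegular_iff_right_eq_zero_of_smul.1 ((hW n).pow k)) x hk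
  have ha : ∀ n x, ((a n).app W).hom x = 0 := by
    intro n x
    apply hinj n
    rw [map_zero]
    exact (h n W).1.apply_apply_eq_zero x
  refine ⟨⟨fun x x' => h0 W ((ha 0 x).trans (ha 0 x').symm)⟩, fun n => ⟨fun z => ?_, (h n W).2.1⟩⟩
  obtain ⟨w, hw⟩ := ((h n W).2.2 z).1 (ha (n + 1) z)
  exact ⟨w, hw⟩

theorem isWeaklyRegular_succ (I : Ideal R) (y : R) (ys : List R) (W : ModuleCat.{u} R)
    (hW : ∀ j, IsWeaklyRegular ((localCohomology I j).obj W) (y :: ys)) (j : ℕ) :
    IsWeaklyRegular ((localCohomology (I ⊔ Ideal.span {y}) j).obj W) ys := by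
  obtain ⟨d, hd⟩ := step I y
  obtain ⟨h1, h2⟩ := hd W (fun j => ((isWeaklyRegular_cons_iff _ y ys).1 (hW j)).1)
  rcases j with _ | j
  · rw [WRegUnion.isWeaklyRegular_iff_forall]
    intro i hi x _
    rw [Subsingleton.elim x 0]
    exact Submodule.zero_mem _
  · have := isLocalizedModule_toLoc y ((localCohomology I j).obj W)
    exact WRegUnion.of_loc_coker y ys (hW j) ((toLoc y).app ((localCohomology I j).obj W)).hom
      ((d j).app W).hom (h2 j).1 (h2 j).2

omit [IsNoetherianRing R] in
theorem loc_eq_zero (y : R) (N : ModuleCat.{u} R) (h : ∀ x : N, x = 0) (x : (loc y).obj N) :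
    x = 0 := by
  have i1 := isLocalizedModule_toLoc y N
  obtain ⟨⟨v, s⟩, hv⟩ := IsLocalizedModule.surj (Submonoid.powers y) ((toLoc y).app N).hom x
  have hv0 : v = 0 := h v
  simp only [hv0, map_zero] at hv
  have h1 := IsLocalizedModule.map_units (S := Submonoid.powers y) ((toLoc y).app N).hom s
  apply ((Module.End.isUnit_iff _).1 h1).1
  rw [map_zero]
  exact hv

/-- Vanishing in degrees below `k +` the length of the sequence. -/
theorem subsingleton_of_lt_add (W : ModuleCat.{u} R) (ys : List R) : ∀ (I : Ideal R) (k : ℕ)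
    (_ : ∀ j, IsWeaklyRegular ((localCohomology I j).obj W) ys)
    (_ : ∀ j, j < k → Subsingleton ((localCohomology I j).obj W)) (j : ℕ)
    (_ : j < k + ys.length), Subsingleton ((localCohomology (I ⊔ Ideal.ofList ys) j).obj W) := by
  induction ys with
  | nil =>
    intro I k _ hv j hj
    rw [Ideal.ofList_nil, sup_bot_eq]
    exact hv j (by simpa using hj)
  | cons z zs ihz =>
    intro I k hr hv j hj
    rw [Ideal.ofList_cons, ← sup_assoc]
    obtain ⟨d, hd⟩ := step I z
    obtain ⟨h1, h2⟩ := hd W (fun j => ((isWeaklyRegular_cons_iff _ z zs).1 (hr j)).1)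
    refine ihz (I ⊔ Ideal.span {z}) (k + 1) (isWeaklyRegular_succ I z zs W hr) ?_ j
      (by rw [List.length_cons] at hj; omega)
    intro j hj
    rcases j with _ | j
    · exact h1
    · have h3 := hv j (by omega)
      have hz : ∀ w : (localCohomology (I ⊔ Ideal.span {z}) (j + 1)).obj W, w = 0 := by
        intro w
        obtain ⟨x, rfl⟩ := (h2 j).1 w
        have hx : x = 0 := loc_eq_zero z ((localCohomology I j).obj W) (fun x => h3.elim x 0) x
        rw [hx, map_zero]
      exact ⟨fun x x' => (hz x).trans (hz x').symm⟩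

/-- Vanishing in degrees below the length of the sequence. -/
theorem subsingleton_of_lt (ys : List R) (I : Ideal R) (W : ModuleCat.{u} R)
    (hW : ∀ j, IsWeaklyRegular ((localCohomology I j).obj W) ys) (j : ℕ) (hj : j < ys.length) :
    Subsingleton ((localCohomology (I ⊔ Ideal.ofList ys) j).obj W) :=
  subsingleton_of_lt_add W ys I 0 hW (fun j hj => absurd hj (Nat.not_lt_zero j)) j (by omega)

/-- A map which is zero on `H^j_I` is zero on `H^{j+c}_{I + (y₁, …, y_c)}`. -/
theorem map_eq_zero (ys : List R) : ∀ (I : Ideal R) (W W' : ModuleCat.{u} R)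
    (_ : ∀ j, IsWeaklyRegular ((localCohomology I j).obj W) ys)
    (_ : ∀ j, IsWeaklyRegular ((localCohomology I j).obj W') ys) (f : W ⟶ W') (j : ℕ)
    (_ : (localCohomology I j).map f = 0),
    (localCohomology (I ⊔ Ideal.ofList ys) (j + ys.length)).map f = 0 := by
  induction ys with
  | nil =>
    intro I W W' _ _ f j h
    have e : I ⊔ Ideal.ofList ([] : List R) = I := by rw [Ideal.ofList_nil, sup_bot_eq]
    rw [e]
    exact h
  | cons y ys ih =>
    intro I W W' hW hW' f j h
    have e : I ⊔ Ideal.ofList (y :: ys) = (I ⊔ Ideal.span {y}) ⊔ Ideal.ofList ys := by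
      rw [Ideal.ofList_cons, sup_assoc]
    rw [e]
    obtain ⟨d, hd⟩ := step I y
    obtain ⟨-, h2⟩ := hd W (fun j => ((isWeaklyRegular_cons_iff _ y ys).1 (hW j)).1)
    have h3 : (localCohomology (I ⊔ Ideal.span {y}) (j + 1)).map f = 0 := by
      have hepi : Epi ((d j).app W) := (ModuleCat.epi_iff_surjective _).2 (h2 j).1
      rw [← cancel_epi ((d j).app W), ← (d j).naturality f, Limits.comp_zero]
      change (loc y).map ((localCohomology I j).map f) ≫ _ = 0
      rw [h, Functor.map_zero, Limits.zero_comp]
    have h4 := ih (I ⊔ Ideal.span {y}) W W' (isWeaklyRegular_succ I y ys W hW)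
      (isWeaklyRegular_succ I y ys W' hW') f (j + 1) h3
    have e2 : j + (y :: ys).length = j + 1 + ys.length := by rw [List.length_cons]; omega
    rw [e2]
    exact h4

end

end K103.RegShift
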