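import Groth.Agent.Smoothlim.PowRegular
import Mathlib.Algebra.Module.LocalizedModule.Basic

/-!
# Weakly regular sequences on increasing unions and on `V_y / V`

`of_loc_coker`: if `y :: ys` is weakly regular on `V` then `ys` is weakly regular on the cokernel of
`V → V_y`.
-/

set_option autoImplicit false

open RingTheory.Sequence
open scoped Pointwise

namespace K103.WRegUnion

universe u v w x

variable {R : Type u} [CommRing R]

theorem isWeaklyRegular_iff_forall {M : Type v} [AddCommGroup M] [Module R M] (rs : List R) :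
    IsWeaklyRegular M rs ↔ ∀ (i : ℕ) (h : i < rs.length) (x : M),
      rs[i] • x ∈ (Ideal.ofList (rs.take i) • ⊤ : Submodule R M) →
        x ∈ (Ideal.ofList (rs.take i) • ⊤ : Submodule R M) := by
  rw [isWeaklyRegular_iff]
  refine forall₂_congr fun i h => ?_
  rw [isSMulRegular_iff_right_eq_zero_of_smul]
  constructor
  · intro H x hx
    rw [← Submodule.Quotient.mk_eq_zero]
    refine H _ ?_
    rw [← Submodule.Quotient.mk_smul, Submodule.Quotient.mk_eq_zero]
    exact hx
  · intro H x hx
    obtain ⟨x, rfl⟩ := Submodule.Quotient.mk_surjective _ x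
    rw [← Submodule.Quotient.mk_smul, Submodule.Quotient.mk_eq_zero] at hx
    rw [Submodule.Quotient.mk_eq_zero]
    exact H x hx

/-- An element of `I • ⊤` lies in `I • X_n` for some `n`. -/
theorem exists_mem_smul {X : Type v} [AddCommGroup X] [Module R X] (I : Ideal R)
    (F : ℕ → Submodule R X) (hF : Monotone F) (hU : ∀ x, ∃ n, x ∈ F n) (x : X)
    (hx : x ∈ (I • ⊤ : Submodule R X)) : ∃ n, x ∈ I • F n := by
  induction hx using Submodule.smul_induction_on' with
  | smul r hr m _ =>
    obtain ⟨n, hn⟩ := hU m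
    exact ⟨n, Submodule.smul_mem_smul hr hn⟩
  | add a _ b _ ha hb =>
    obtain ⟨n, hn⟩ := ha
    obtain ⟨m, hm⟩ := hb
    exact ⟨max n m, Submodule.add_mem _
      (Submodule.smul_mono le_rfl (hF (le_max_left _ _)) hn)
      (Submodule.smul_mono le_rfl (hF (le_max_right _ _)) hm)⟩

/-- Weak regularity passes to increasing unions. -/
theorem isWeaklyRegular_of_union {X : Type v} [AddCommGroup X] [Module R X] (rs : List R)
    (F : ℕ → Submodule R X) (hF : Monotone F) (hU : ∀ x, ∃ n, x ∈ F n)
    (h : ∀ n, IsWeaklyRegular (F n) rs) : IsWeaklyRegular X rs := by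
  rw [isWeaklyRegular_iff_forall]
  intro i hi x hx
  obtain ⟨n, hn⟩ := hU x
  obtain ⟨m, hm⟩ := exists_mem_smul _ F hF hU _ hx
  let k := max n m
  have hxk : x ∈ F k := hF (le_max_left _ _) hn
  have hmk : rs[i] • x ∈ Ideal.ofList (rs.take i) • F k :=
    Submodule.smul_mono le_rfl (hF (le_max_right _ _)) hm
  have key : ∀ z : F k, (z : X) ∈ Ideal.ofList (rs.take i) • F k ↔
      z ∈ (Ideal.ofList (rs.take i) • ⊤ : Submodule R (F k)) := by
    intro z
    have h1 : Ideal.ofList (rs.take i) • F k =
        (Ideal.ofList (rs.take i) • ⊤ : Submodule R (F k)).map (F k).subtype := by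
      rw [Submodule.map_smul'', Submodule.map_top, Submodule.range_subtype]
    rw [h1]
    constructor
    · rintro ⟨w, hw, hwz⟩
      rwa [← Subtype.ext (a1 := w) (a2 := z) hwz]
    · intro hz
      exact ⟨z, hz, rfl⟩
  have h2 := (isWeaklyRegular_iff_forall rs).1 (h k) i hi ⟨x, hxk⟩ ((key _).1 hmk)
  have h3 := (key ⟨x, hxk⟩).2 h2
  exact Submodule.smul_mono le_rfl le_top h3

/-- If `y :: ys` is weakly regular on `V`, then `ys` is weakly regular on `V_y / V`. -/
theorem of_loc_coker {V : Type v} {W : Type w} {X : Type x} [AddCommGroup V] [Module R V]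
    [AddCommGroup W] [Module R W] [AddCommGroup X] [Module R X] (y : R) (ys : List R)
    (h : IsWeaklyRegular V (y :: ys)) (ℓ : V →ₗ[R] W) [IsLocalizedModule (Submonoid.powers y) ℓ]
    (π : W →ₗ[R] X) (hπ : Function.Surjective π) (hℓπ : Function.Exact ℓ π) :
    IsWeaklyRegular X ys := by
  rw [isWeaklyRegular_cons_iff] at h
  obtain ⟨hy, hys⟩ := h
  -- division by powers of `y`
  have hu : ∀ n : ℕ, Function.Bijective fun z : W => y ^ n • z := by
    intro n
    have := IsLocalizedModule.map_units (S := Submonoid.powers y) ℓ ⟨y ^ n, n, rfl⟩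
    exact (Module.End.isUnit_iff _).1 this
  have hex : ∀ (n : ℕ) (v : V), ∃ w : W, y ^ n • w = ℓ v := fun n v => (hu n).2 (ℓ v)
  have hℓ : ∀ v : V, ℓ v = 0 → v = 0 := by
    intro v hv
    rw [IsLocalizedModule.eq_zero_iff (Submonoid.powers y)] at hv
    obtain ⟨⟨_, n, rfl⟩, hn⟩ := hv
    exact (isSMulRegular_iff_right_eq_zero_of_smul.1 (hy.pow n)) v hn
  let φ : ℕ → V →ₗ[R] X := fun n =>
    { toFun := fun v => π (hex (n + 1) v).choose
      map_add' := fun v v' => by
        rw [← map_add]
        congr 1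
        apply (hu (n + 1)).1
        simp only [smul_add]
        rw [(hex (n + 1) (v + v')).choose_spec, (hex (n + 1) v).choose_spec,
          (hex (n + 1) v').choose_spec, map_add]
      map_smul' := fun r v => by
        rw [RingHom.id_apply, ← map_smul]
        congr 1
        apply (hu (n + 1)).1
        simp only
        rw [(hex (n + 1) (r • v)).choose_spec, smul_comm, (hex (n + 1) v).choose_spec, map_smul] }
  have hφ : ∀ n v w, y ^ (n + 1) • w = ℓ v → φ n v = π w := by
    intro n v w hw
    change π _ = π w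
    congr 1
    apply (hu (n + 1)).1
    exact (hex (n + 1) v).choose_spec.trans hw.symm
  have hker : ∀ n, LinearMap.ker (φ n) = (y ^ (n + 1) • ⊤ : Submodule R V) := by
    intro n
    ext v
    obtain ⟨w, hw⟩ := hex (n + 1) v
    rw [LinearMap.mem_ker, hφ n v w hw, hℓπ w, Submodule.mem_smul_pointwise_iff_exists]
    constructor
    · rintro ⟨v', rfl⟩
      refine ⟨v', trivial, ?_⟩
      rw [← sub_eq_zero]
      apply hℓ
      rw [map_sub, map_smul, hw, sub_self]
    · rintro ⟨v', -, rfl⟩
      refine ⟨v', ?_⟩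
      apply (hu (n + 1)).1
      simp only
      rw [hw, map_smul]
  have hWR : ∀ n, IsWeaklyRegular (LinearMap.range (φ n)) ys := by
    intro n
    have h1 := Groth.Agent.Smoothlim.PowRegular.isWeaklyRegular_quotSMulTop_pow hy hys n
    have e : QuotSMulTop (y ^ (n + 1)) V ≃ₗ[R] LinearMap.range (φ n) :=
      (Submodule.quotEquivOfEq _ _ (hker n).symm).trans (φ n).quotKerEquivRange
    exact (e.isWeaklyRegular_congr ys).1 h1
  refine isWeaklyRegular_of_union ys (fun n => LinearMap.range (φ n)) ?_ ?_ hWR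
  · refine monotone_nat_of_le_succ fun n => ?_
    rintro _ ⟨v, rfl⟩
    obtain ⟨w, hw⟩ := hex (n + 1) v
    refine ⟨y • v, ?_⟩
    rw [hφ n v w hw, hφ (n + 1) (y • v) w (by rw [pow_succ', mul_smul, hw, map_smul])]
  · intro x
    obtain ⟨w, rfl⟩ := hπ x
    obtain ⟨⟨v, ⟨_, n, rfl⟩⟩, hv⟩ := IsLocalizedModule.surj (Submonoid.powers y) ℓ w
    have hv' : y ^ n • w = ℓ v := hv
    refine ⟨n, y • v, hφ n _ w ?_⟩
    rw [pow_succ', mul_smul, hv', map_smul]

end K103.WRegUnion
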